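import Groth.Agent.Lib.Kleiman.TopCoef
import Groth.Agent.Lib.Nakai.Criterion
import Groth.Agent.Lib.Cube.Pic
import Groth.Prelude.Def_NumR

/-!
# Kleiman's theorem: intersection numbers of nef and ample modules are non-negative
-/

set_option autoImplicit false
set_option backward.isDefEq.respectTransparency false
set_option linter.all false

universe u

open CategoryTheory CategoryTheory.Limits AlgebraicGeometry TopologicalSpace

noncomputable section

namespace GrothLib.Kleiman

open GrothLib.Euler (tF)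
open GrothLib.Snapper (DimLT IsTop phi mixed ptMod invPows polyLT)
open GrothLib.Cube (Pic clsMod)

variable {X : Scheme.{u}}

theorem cls_invPows : ∀ (r : ℕ) (L : Fin r → X.Modules) (hL : ∀ i, PicF.IsInvertible (L i)) (n : Fin r → ℕ),
    clsMod (Snapper.isInvertible_invPows r L hL n) = ∏ i, clsMod (hL i) ^ n i := by
  intro r
  induction r with
  | zero =>
    intro L hL n
    rw [Fin.prod_univ_zero, Cube.clsMod_eq_one_iff]
    exact ⟨Iso.refl _⟩
  | succ r ih =>
    intro L hL n
    rw [Fin.prod_univ_castSucc, ← ih (fun i => L i.castSucc) (fun i => hL _) fun i => n i.castSucc,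
      ← Cube.clsMod_tensorPow, ← Cube.clsMod_tensorMod]

theorem inv_two {L A : X.Modules} (hL : PicF.IsInvertible L) (hA : PicF.IsInvertible A) :
    ∀ i, PicF.IsInvertible (![L, A] i) :=
  Fin.forall_fin_two.2 ⟨hL, hA⟩

theorem isInv_pullback {Z : Scheme.{u}} (j : Z ⟶ X) {L : X.Modules} (hL : PicF.IsInvertible L) :
    PicF.IsInvertible ((Scheme.Modules.pullback j).obj L) :=
  Ample.isInvertible_pullback j hL

variable (k : Type u) [Field k] [X.Over (Spec (CommRingCat.of k))]

/-- Euler characteristics of twists only depend on the classes. -/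
theorem phi_eq_of_cls {r s : ℕ} {L : Fin r → X.Modules} (hL : ∀ i, PicF.IsInvertible (L i))
    {L' : Fin s → X.Modules} (hL' : ∀ i, PicF.IsInvertible (L' i)) (F : X.Modules) {n : Fin r → ℕ}
    {n' : Fin s → ℕ} (h : ∏ i, clsMod (hL i) ^ n i = ∏ i, clsMod (hL' i) ^ n' i) :
    phi k r L F n = phi k s L' F n' := by
  rw [← cls_invPows r L hL, ← cls_invPows s L' hL'] at h
  obtain ⟨e⟩ := (Cube.clsMod_eq_iff _ _).1 h
  exact congrArg Int.cast (Euler.euler_of_iso k (((DCoh.tensorBi (X := X)).obj F).mapIso e))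

theorem phi_tF_of_cls {r : ℕ} {L : Fin r → X.Modules} (hL : ∀ i, PicF.IsInvertible (L i)) {M : X.Modules}
    (hM : PicF.IsInvertible M) (F : X.Modules) {n n' : Fin r → ℕ}
    (h : clsMod hM * ∏ i, clsMod (hL i) ^ n i = ∏ i, clsMod (hL i) ^ n' i) :
    phi k r L ((tF M).obj F) n = phi k r L F n' := by
  rw [← cls_invPows r L hL, ← cls_invPows r L hL, ← Cube.clsMod_tensorMod] at h
  obtain ⟨e⟩ := (Cube.clsMod_eq_iff _ _).1 h
  exact congrArg Int.cast (Euler.euler_of_iso k
    (OX.tensorAssoc F M (invPows r L n) ≪≫ ((DCoh.tensorBi (X := X)).obj F).mapIso e))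

/-- Twists restricted to a point module. -/
theorem phi_pt [IsProper (X ↘ Spec (CommRingCat.of k))] {L A : X.Modules} (hL : PicF.IsInvertible L)
    (hA : PicF.IsInvertible A) (x : X) :
    letI I := Scheme.IdealSheafData.vanishingIdeal (⟨closure ({x} : Set X), isClosed_closure⟩ : Closeds X)
    letI : I.subscheme.Over (Spec (CommRingCat.of k)) := ⟨I.subschemeι ≫ X ↘ Spec (CommRingCat.of k)⟩
    phi k 2 ![L, A] (ptMod x) =
      phi k 2 ![(Scheme.Modules.pullback I.subschemeι).obj L, (Scheme.Modules.pullback I.subschemeι).obj A]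
        (Coh.structureModule I.subscheme) := by
  let I := Scheme.IdealSheafData.vanishingIdeal (⟨closure ({x} : Set X), isClosed_closure⟩ : Closeds X)
  letI : I.subscheme.Over (Spec (CommRingCat.of k)) := ⟨I.subschemeι ≫ X ↘ Spec (CommRingCat.of k)⟩
  have hv : (fun i => (Scheme.Modules.pullback I.subschemeι).obj (![L, A] i)) =
      ![(Scheme.Modules.pullback I.subschemeι).obj L, (Scheme.Modules.pullback I.subschemeι).obj A] := by
    funext i; fin_cases i <;> rfl
  funext n
  refine ((Snapper.phi_push k I.subschemeι rfl (inv_two hL hA) n).trans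
    (congrArg Int.cast (Euler.euler_of_iso k (OX.tensorUnitLeftIso _).symm))).trans ?_
  rw [← hv]
  rfl

variable [IsProper (X ↘ Spec (CommRingCat.of k))]

theorem phi_mem {L A F : X.Modules} (hL : PicF.IsInvertible L) (hA : PicF.IsInvertible A) (hF : Coh.IsCoh F)
    {d : ℕ} (hd : DimLT (CohB1.support F) (d + 1)) : phi k 2 ![L, A] F ∈ polyLT 2 (d + 1) :=
  Snapper.phi_mem_polyLT k (inv_two hL hA) (d + 1) F hF hd

/-- The self-intersection of `L^p ⊗ A^q` in terms of the coefficients. -/
theorem lead_eq {L A D F : X.Modules} (hL : PicF.IsInvertible L) (hA : PicF.IsInvertible A)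
    (hD : PicF.IsInvertible D) {p q : ℕ} (hcls : clsMod hD = clsMod hL ^ p * clsMod hA ^ q)
    (hF : Coh.IsCoh F) {d : ℕ} (hd : DimLT (CohB1.support F) (d + 1)) :
    mixed d (phi k d (fun _ => D) F) =
      (∑ i ∈ Finset.range (d + 1), tc d i (phi k 2 ![L, A] F) * (p : ℚ) ^ i * (q : ℚ) ^ (d - i)) *
        (d.factorial : ℚ) := by
  have h := line_mem p q (phi_mem k hL hA hF hd)
  have he : phi k 1 (fun _ => D) F = fun n : Fin 1 → ℕ => phi k 2 ![L, A] F ![p * n 0, q * n 0] := by
    funext n
    refine phi_eq_of_cls k (fun _ => hD) (inv_two hL hA) F ?_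
    simp [Fin.prod_univ_two, hcls, mul_pow, ← pow_mul]
  rw [Snapper.phi_const_comp, he, Snapper.mixed_comp_sumArg h]

theorem lead_self {L A F : X.Modules} (hL : PicF.IsInvertible L) (hA : PicF.IsInvertible A)
    (hF : Coh.IsCoh F) {d : ℕ} (hd : DimLT (CohB1.support F) (d + 1)) :
    mixed d (phi k d (fun _ => A) F) = tc d 0 (phi k 2 ![L, A] F) * (d.factorial : ℚ) := by
  rw [lead_eq k hL hA hA (p := 0) (q := 1) (by simp) hF hd, Finset.sum_range_succ']
  simp

omit [X.Over (Spec (CommRingCat.of k))] [IsProper (X ↘ Spec (CommRingCat.of k))] in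
theorem mem_support_structure (x : X) : x ∈ CohB1.support (Coh.structureModule X) := by
  intro h
  haveI : Nontrivial ((Coh.structureModule X).presheaf.stalk x) :=
    (HomSh.unitStalk (X := X) x).symm.toEquiv.nontrivial
  exact not_subsingleton _ h

include k in
theorem mem_support_ptMod (x : X) : x ∈ CohB1.support (ptMod x) := by
  haveI := Euler.isNoetherian_of_proper (X := X) k
  by_contra h
  have := Snapper.length_of_notMem h
  rw [Snapper.length_ptMod] at this
  exact one_ne_zero this

/-- The coefficient of `b^d` is positive. -/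
theorem tc_zero_pos {L A F : X.Modules} (hL : PicF.IsInvertible L) (hA : CohB1.IsAmple A) (hF : Coh.IsCoh F)
    {d : ℕ} (hd : DimLT (CohB1.support F) (d + 1)) (hx : ∃ x ∈ CohB1.support F, IsTop d x) :
    0 < tc d 0 (phi k 2 ![L, A] F) := by
  have h := Snapper.mixed_pos k d X A hA F hF hd hx
  rw [lead_self k hL hA.1 hF hd] at h
  exact (mul_pos_iff_of_pos_right (by exact_mod_cast d.factorial_pos)).1 h

theorem curveDeg_eq_euler {Y : Scheme.{u}} [Y.Over (Spec (CommRingCat.of k))]
    [IsProper (Y ↘ Spec (CommRingCat.of k))] (hd : topologicalKrullDim Y ≤ 1) {M : Y.Modules}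
    (hM : PicF.IsInvertible M) :
    Pic13.curveDeg k (Y ↘ Spec (CommRingCat.of k)) M =
      Curv2.euler k Y M - Curv2.euler k Y (Coh.structureModule Y) := by
  have h : ∀ G : Y.Modules, PicF.IsInvertible G → FGA.eulerCharLE k Y G 1 = Curv2.euler k Y G := fun G hG => by
    haveI := Euler.isNoetherian_of_proper (X := Y) k
    haveI : G.IsQuasicoherent := (Euler.isCoh_of_isInvertible hG).1
    exact (Euler.euler_eq_sum k G (N := 2) fun n hn => Euler.subsingleton_HH_of_two_le k hd G n hn).symm
  show FGA.eulerCharLE k Y M 1 - FGA.eulerCharLE k Y (Coh.structureModule Y) 1 = _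
  rw [h M hM, h _ Euler.isInvertible_structure]

omit [IsProper (X ↘ Spec (CommRingCat.of k))] in
theorem phi_one_zero {L A : X.Modules} (hL : PicF.IsInvertible L) (hA : PicF.IsInvertible A) :
    phi k 2 ![L, A] (Coh.structureModule X) ![1, 0] = (Curv2.euler k X L : ℚ) := by
  have h := phi_eq_of_cls k (inv_two hL hA) (fun _ : Fin 1 => hL) (Coh.structureModule X)
    (n := ![1, 0]) (n' := fun _ => 1) (by simp [Fin.prod_univ_two])
  rw [h, Snapper.phi_const_eq]
  obtain ⟨e⟩ : Nonempty (CohB1.tensorPow L (∑ _i : Fin 1, 1) ≅ L) :=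
    (Cube.clsMod_eq_iff (Ample.isInvertible_tensorPow hL _) hL).1
      (by rw [Cube.clsMod_tensorPow, Fin.sum_univ_one, pow_one])
  exact congrArg Int.cast (Euler.euler_of_iso k
    (((DCoh.tensorBi (X := X)).obj (Coh.structureModule X)).mapIso e ≪≫ OX.tensorUnitLeftIso L))

/-- On a curve the coefficient of `a` is the degree. -/
theorem tc_one_curve (hd : topologicalKrullDim X ≤ 1) {L A : X.Modules} (hL : PicF.IsInvertible L)
    (hA : PicF.IsInvertible A) :
    tc 1 1 (phi k 2 ![L, A] (Coh.structureModule X)) =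
      (Pic13.curveDeg k (X ↘ Spec (CommRingCat.of k)) L : ℚ) := by
  have h0 : phi k 2 ![L, A] (Coh.structureModule X) ![0, 0] = (Curv2.euler k X (Coh.structureModule X) : ℚ) := by
    rw [show (![0, 0] : Fin 2 → ℕ) = 0 by funext i; fin_cases i <;> rfl]
    exact Snapper.phi_zero k _ _
  rw [curveDeg_eq_euler k hd hL, Int.cast_sub, ← phi_one_zero k hL hA, ← h0]
  show alt 1 (fun s => alt (1 - 1) fun t => phi k 2 ![L, A] (Coh.structureModule X) ![s, t]) /
    ((Nat.factorial 1 : ℚ) * (Nat.factorial (1 - 1) : ℚ)) = _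
  simp [alt, Finset.sum_range_succ]
  ring

omit [IsProper (X ↘ Spec (CommRingCat.of k))] in
theorem isNef_pullback {L : X.Modules} (hn : NumR.IsNef k X L) {Z : Scheme.{u}}
    [Z.Over (Spec (CommRingCat.of k))] [IsProper (Z ↘ Spec (CommRingCat.of k))] (j : Z ⟶ X) [IsClosedImmersion j]
    (hj : j ≫ X ↘ Spec (CommRingCat.of k) = Z ↘ Spec (CommRingCat.of k)) (hL : PicF.IsInvertible L) :
    NumR.IsNef k Z ((Scheme.Modules.pullback j).obj L) := by
  intro Y i hi hY hdim
  haveI := hY
  letI : Y.Over (Spec (CommRingCat.of k)) := ⟨i ≫ Z ↘ Spec (CommRingCat.of k)⟩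
  haveI : IsProper (Y ↘ Spec (CommRingCat.of k)) :=
    inferInstanceAs (IsProper (i ≫ Z ↘ Spec (CommRingCat.of k)))
  have hp : (i ≫ j) ≫ X ↘ Spec (CommRingCat.of k) = Y ↘ Spec (CommRingCat.of k) := by
    rw [Category.assoc, hj]
    rfl
  have h := hn Y (i ≫ j) hY hdim
  rw [hp, curveDeg_eq_euler k hdim.le (isInv_pullback _ hL)] at h
  show 0 ≤ Pic13.curveDeg k (Y ↘ Spec (CommRingCat.of k)) ((Scheme.Modules.pullback i).obj ((Scheme.Modules.pullback j).obj L))
  rw [curveDeg_eq_euler k hdim.le (isInv_pullback i (isInv_pullback j hL)),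
    Euler.euler_of_iso k (show (Scheme.Modules.pullback i).obj ((Scheme.Modules.pullback j).obj L) ≅
      (Scheme.Modules.pullback (i ≫ j)).obj L from (Scheme.Modules.pullbackComp i j).app L)]
  exact h

/-- Kleiman's inequalities on integral schemes of dimension `d`. -/
def NefHyp (k : Type u) [Field k] (d : ℕ) : Prop :=
  ∀ (X : Scheme.{u}) [X.Over (Spec (CommRingCat.of k))] [IsProper (X ↘ Spec (CommRingCat.of k))] [IsIntegral X],
    topologicalKrullDim X = (d : WithBot ℕ∞) → ∀ L A : X.Modules, PicF.IsInvertible L → NumR.IsNef k X L →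
      CohB1.IsAmple A → ∀ i, i ≤ d → 0 ≤ tc d i (phi k 2 ![L, A] (Coh.structureModule X))

/-- From integral schemes to coherent modules. -/
theorem tc_nonneg_of_hyp {d : ℕ} (H : NefHyp k d) {L A F : X.Modules} (hL : PicF.IsInvertible L)
    (hn : NumR.IsNef k X L) (hA : CohB1.IsAmple A) (hF : Coh.IsCoh F)
    (hd : DimLT (CohB1.support F) (d + 1)) {i : ℕ} (hi : i ≤ d) : 0 ≤ tc d i (phi k 2 ![L, A] F) := by
  haveI := Euler.isNoetherian_of_proper (X := X) k
  have hfin := Snapper.finite_support_topTerm (phi k 2 ![L, A]) (QCoh.isClosed_support_of_isCoh hF) hd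
    (Set.Subset.refl (CohB1.support F))
  have h := tc_eq_zero hi (Snapper.phi_sub_sum_mem k (inv_two hL hA.1) hF hd)
  rw [map_sub, sub_eq_zero, map_finsum (tc d i) hfin] at h
  rw [h]
  refine finsum_nonneg fun y => ?_
  by_cases hy : IsTop d y
  · rw [Snapper.topTerm_of _ hy, map_nsmul]
    refine nsmul_nonneg ?_ _
    let I := Scheme.IdealSheafData.vanishingIdeal (⟨closure ({y} : Set X), isClosed_closure⟩ : Closeds X)
    letI : I.subscheme.Over (Spec (CommRingCat.of k)) := ⟨I.subschemeι ≫ X ↘ Spec (CommRingCat.of k)⟩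
    haveI : IsProper (I.subscheme ↘ Spec (CommRingCat.of k)) :=
      inferInstanceAs (IsProper (I.subschemeι ≫ X ↘ Spec (CommRingCat.of k)))
    haveI : IsIntegral I.subscheme := Snapper.isIntegral_pt y
    rw [phi_pt k hL hA.1 y]
    refine H I.subscheme ?_ _ _ (isInv_pullback _ hL) (isNef_pullback k hn I.subschemeι rfl hL)
      (Ample.isAmple_pullback_of_isAffineHom I.subschemeι hA) i hi
    refine (IsHomeomorph.topologicalKrullDim_eq _
      I.subschemeι.isClosedEmbedding.isEmbedding.toHomeomorph.isHomeomorph).trans ?_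
    rw [Snapper.range_pt]
    exact hy
  · rw [Snapper.topTerm_eq_zero _ (fun h' => absurd h' hy), map_zero]

omit [X.Over (Spec (CommRingCat.of k))] [IsProper (X ↘ Spec (CommRingCat.of k))] in
theorem isTop_genericPoint [IsIntegral X] {d : ℕ} (hd : topologicalKrullDim X = (d : WithBot ℕ∞)) :
    IsTop d (genericPoint X) := by
  show topologicalKrullDim (closure ({genericPoint X} : Set X)) = _
  rw [(genericPoint_spec X).def]
  exact (IsHomeomorph.topologicalKrullDim_eq _ (Homeomorph.Set.univ X).isHomeomorph).trans hd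

omit [X.Over (Spec (CommRingCat.of k))] [IsProper (X ↘ Spec (CommRingCat.of k))] in
theorem dimLT_univ {d : ℕ} (hd : topologicalKrullDim X ≤ (d : WithBot ℕ∞)) : DimLT (Set.univ : Set X) (d + 1) :=
  Snapper.dimLT_of_dim_le ((IsHomeomorph.topologicalKrullDim_eq _ (Homeomorph.Set.univ X).isHomeomorph).le.trans hd)

include k in
theorem isCoh_O : Coh.IsCoh (Coh.structureModule X) :=
  haveI := Euler.isNoetherian_of_proper (X := X) k
  Euler.isCoh_of_isInvertible Euler.isInvertible_structure

/-- Cutting by a section of a power of the ample module. -/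
theorem cut [IsIntegral X] {e : ℕ} (ih : NefHyp k e)
    (hdim : topologicalKrullDim X = ((e + 1 : ℕ) : WithBot ℕ∞)) {L A : X.Modules} (hL : PicF.IsInvertible L)
    (hn : NumR.IsNef k X L) (hA : CohB1.IsAmple A) {i : ℕ} (hi : i ≤ e) :
    0 ≤ tc (e + 1) i (phi k 2 ![L, A] (Coh.structureModule X)) := by
  haveI := Euler.isNoetherian_of_proper (X := X) k
  have hO := isCoh_O (X := X) k
  obtain ⟨n, s, hηs, -, -⟩ := Ample.exists_affine_genLocus_le hA
    (show genericPoint X ∈ (⊤ : X.Opens) from trivial)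
  let M := CohB1.tensorPow A (n + 1)
  have hM : PicF.IsInvertible M := Ample.isInvertible_tensorPow hA.1 _
  have hs0 : s ≠ 0 := fun h => by
    have hb := (Snapper.stalk_bijective_of_mem_genLocus s hηs).1
    haveI : Nontrivial ((Coh.structureModule X).presheaf.stalk (genericPoint X)) :=
      (HomSh.unitStalk (X := X) _).symm.toEquiv.nontrivial
    obtain ⟨v, hv⟩ := exists_ne (0 : (Coh.structureModule X).presheaf.stalk (genericPoint X))
    refine hv (hb ?_)
    subst h
    obtain ⟨U, hU, a, rfl⟩ := TopCat.Presheaf.exists_germ_eq (Coh.structureModule X).presheaf v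
    rw [QCoh.stalkLin_germ, map_zero]
    exact map_zero _
  haveI := Euler.mono_of_ne_zero Euler.isInvertible_structure hM hs0
  let S : ShortComplex X.Modules := ShortComplex.mk s (cokernel.π s) (cokernel.condition s)
  have hS : S.ShortExact :=
    haveI : Mono S.f := ‹Mono s›
    haveI : Epi S.g := inferInstanceAs (Epi (cokernel.π s))
    { exact := ShortComplex.exact_of_g_is_cokernel _ (cokernelIsCokernel _) }
  have hMc : Coh.IsCoh M := Euler.isCoh_of_isInvertible hM
  have hQ : Coh.IsCoh (cokernel s) := QCoh.isCoh_cokernel s hO hMc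
  have hQd : DimLT (CohB1.support (cokernel s)) (e + 1) := by
    refine (Snapper.dimLT_of_notMem (isTop_genericPoint hdim).dimLT (T := (CohB1.genLocus M s : Set X)ᶜ) ?_
      fun h => h hηs).mono fun x hx hxs => ?_
    · rw [show closure ({genericPoint X} : Set X) = Set.univ from (genericPoint_spec X).def]
      exact Set.subset_univ _
    · exact QCoh.notMem_support_cokernel_of_surjective s (Snapper.stalk_bijective_of_mem_genLocus s hxs).2 hx
  have hadd := Snapper.phi_additive k (inv_two hL hA.1) hS hO hMc hQ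
  have hQphi : phi k 2 ![L, A] (cokernel s) = fun m => phi k 2 ![L, A] (Coh.structureModule X) ![m 0, m 1 + (n + 1)]
      - phi k 2 ![L, A] (Coh.structureModule X) m := by
    funext m
    have h1 := congrFun hadd m
    simp only [S, Pi.add_apply] at h1
    have h2 : phi k 2 ![L, A] M m = phi k 2 ![L, A] (Coh.structureModule X) ![m 0, m 1 + (n + 1)] := by
      rw [Snapper.phi_of_iso k ![L, A] (show M ≅ (tF M).obj (Coh.structureModule X) from (OX.tensorUnitLeftIso M).symm)]
      refine phi_tF_of_cls k (inv_two hL hA.1) hM _ ?_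
      rw [Fin.prod_univ_two, Fin.prod_univ_two, show clsMod hM = clsMod hA.1 ^ (n + 1) from Cube.clsMod_tensorPow hA.1 _]
      show clsMod hA.1 ^ (n + 1) * (clsMod hL ^ m 0 * clsMod hA.1 ^ m 1) = clsMod hL ^ m 0 * clsMod hA.1 ^ (m 1 + (n + 1))
      rw [mul_left_comm, ← pow_add, add_comm (n + 1) (m 1)]
    rw [← h2, h1, add_sub_cancel_left]
  have h := tc_nonneg_of_hyp k ih hL hn hA hQ hQd hi
  rw [hQphi, tc_shift hi (phi_mem k hL hA.1 hO ((dimLT_univ hdim.le).mono fun _ _ => trivial))] at h
  have hpos : (0 : ℚ) < ((n + 1 : ℕ) : ℚ) * ((e + 1 - i : ℕ) : ℚ) :=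
    mul_pos (by exact_mod_cast n.succ_pos) (by exact_mod_cast (show 0 < e + 1 - i by omega))
  exact (mul_nonneg_iff_of_pos_left hpos).1 h

theorem exists_cls (x y : Pic X) :
    ∃ (D : X.Modules) (hD : PicF.IsInvertible D), clsMod hD = x * y := by
  induction x * y using Quotient.inductionOn with
  | _ c =>
    exact ⟨c.twist 1, c.isInvertible_of_iso (Iso.refl _),
      Cube.clsMod_eq (c.isInvertible_of_iso (Iso.refl _)) (Iso.refl _)⟩

/-- The inductive step. -/
theorem step [IsIntegral X] {e : ℕ} (ih : ∀ e' ≤ e, NefHyp k e')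
    (hdim : topologicalKrullDim X = ((e + 1 : ℕ) : WithBot ℕ∞)) {L A : X.Modules} (hL : PicF.IsInvertible L)
    (hn : NumR.IsNef k X L) (hA : CohB1.IsAmple A) :
    0 ≤ tc (e + 1) (e + 1) (phi k 2 ![L, A] (Coh.structureModule X)) := by
  haveI := Euler.isNoetherian_of_proper (X := X) k
  have hO := isCoh_O (X := X) k
  rcases Nat.eq_zero_or_pos e with rfl | he
  · rw [tc_one_curve k hdim.le hL hA.1]
    have h := hn X (𝟙 X) inferInstance hdim
    rw [Category.id_comp, curveDeg_eq_euler k hdim.le (isInv_pullback _ hL),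
      Euler.euler_of_iso k (show (Scheme.Modules.pullback (𝟙 X)).obj L ≅ L from (Scheme.Modules.pullbackId X).app L),
      ← curveDeg_eq_euler k hdim.le hL] at h
    exact_mod_cast h
  have hd : DimLT (CohB1.support (Coh.structureModule X)) (e + 1 + 1) :=
    (dimLT_univ hdim.le).mono fun _ _ => trivial
  let c : ℕ → ℚ := fun i => tc (e + 1) i (phi k 2 ![L, A] (Coh.structureModule X))
  refine nonneg_last (Nat.le_add_left 1 e) c (fun i hi => cut k (ih e le_rfl) hdim hL hn hA (Nat.lt_succ_iff.1 hi))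
    (tc_zero_pos k hL hA hO hd ⟨genericPoint X, mem_support_structure _, isTop_genericPoint hdim⟩) ?_
  intro p q hp hq hsum
  obtain ⟨D, hD, hcls⟩ := exists_cls (clsMod hL ^ q) (clsMod hA.1 ^ p)
  have hDA : CohB1.IsAmple D := by
    refine Nakai.isAmple_of_pos k hD fun x m hm hx => ?_
    have hxd : DimLT (CohB1.support (ptMod x)) (m + 1) := hx.dimLT.mono (Snapper.support_ptMod x)
    have hxc := Snapper.isCoh_ptMod x
    rw [lead_eq k hL hA.1 hD hcls hxc hxd]
    refine mul_pos ?_ (by exact_mod_cast m.factorial_pos)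
    have hme : m ≤ e + 1 := by
      have h : topologicalKrullDim (closure ({x} : Set X)) ≤ topologicalKrullDim X :=
        (Topology.IsInducing.subtypeVal).topologicalKrullDim_le
      rw [show topologicalKrullDim (closure ({x} : Set X)) = (m : WithBot ℕ∞) from hx, hdim] at h
      exact_mod_cast h
    rcases hme.lt_or_eq with hlt | rfl
    · refine lt_of_lt_of_le ?_ (Finset.single_le_sum (fun i hi => ?_) (Finset.mem_range.2 (Nat.succ_pos m)))
      · have hp' : (0 : ℚ) < p := by exact_mod_cast hp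
        have := tc_zero_pos k hL hA hxc hxd ⟨x, mem_support_ptMod k x, hx⟩
        simp only [pow_zero, mul_one, Nat.sub_zero]
        positivity
      · exact mul_nonneg (mul_nonneg (tc_nonneg_of_hyp k (ih m (Nat.lt_succ_iff.1 hlt)) hL hn hA hxc hxd
          (Nat.lt_succ_iff.1 (Finset.mem_range.1 hi))) (pow_nonneg (Nat.cast_nonneg _) _))
          (pow_nonneg (Nat.cast_nonneg _) _)
    · obtain rfl : x = genericPoint X := by
        exact (hx.eq_of_specializes (genericPoint_specializes x) (isTop_genericPoint hdim).dimLT).symm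
      have hfin := Snapper.finite_support_topTerm (phi k 2 ![L, A]) (QCoh.isClosed_support_of_isCoh hO) hd
        (Set.Subset.refl (CohB1.support (Coh.structureModule X)))
      have hmem := Snapper.phi_sub_sum_mem k (inv_two hL hA.1) hO hd
      rw [finsum_eq_single _ (genericPoint X) fun y hy => Snapper.topTerm_eq_zero _ fun hyt _ => hy
        (hyt.eq_of_specializes (genericPoint_specializes _) (isTop_genericPoint hdim).dimLT).symm,
        Snapper.topTerm_of _ (isTop_genericPoint hdim)] at hmem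
      have heq : ∀ i ∈ Finset.range (e + 1 + 1), c i =
          (Snapper.mult (Coh.structureModule X) (genericPoint X) : ℚ) *
            tc (e + 1) i (phi k 2 ![L, A] (ptMod (genericPoint X))) := by
        intro i hi
        have h := tc_eq_zero (Nat.lt_succ_iff.1 (Finset.mem_range.1 hi)) hmem
        rw [map_sub, map_nsmul, sub_eq_zero, nsmul_eq_mul] at h
        exact h
      by_contra hle
      push Not at hle
      refine hsum.not_ge ?_
      rw [Finset.sum_congr rfl fun i hi => by rw [heq i hi, mul_assoc, mul_assoc, ← mul_assoc (tc (e + 1) i _)],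
        ← Finset.mul_sum]
      exact mul_nonpos_of_nonneg_of_nonpos (Nat.cast_nonneg _) hle
  have h1 := cut k (ih e le_rfl) hdim hL hn hDA (i := 1) he
  have hsub : phi k 2 ![L, D] (Coh.structureModule X) =
      fun m => phi k 2 ![L, A] (Coh.structureModule X) ![m 0 + q * m 1, p * m 1] := by
    funext m
    refine phi_eq_of_cls k (inv_two hL hD) (inv_two hL hA.1) _ ?_
    simp [Fin.prod_univ_two, hcls, mul_pow, ← pow_mul, pow_add, mul_assoc]
  rw [hsub, tc_one_subst (Nat.le_add_left 1 e) p q (phi_mem k hL hA.1 hO hd)] at h1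
  exact h1

/-- Kleiman's theorem on integral schemes. -/
theorem nefHyp (k : Type u) [Field k] (d : ℕ) : NefHyp k d := by
  induction d using Nat.strong_induction_on with
  | _ d ih =>
    intro X _ _ _ hdim L A hL hn hA i hi
    rcases hi.lt_or_eq with hlt | rfl
    · obtain ⟨e, rfl⟩ : ∃ e, d = e + 1 := ⟨d - 1, by omega⟩
      exact cut k (ih e (Nat.lt_succ_self e)) hdim hL hn hA (Nat.lt_succ_iff.1 hlt)
    · cases i with
      | zero => exact (tc_zero_pos k hL hA (isCoh_O k) ((dimLT_univ hdim.le).mono fun _ _ => trivial)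
          ⟨genericPoint X, mem_support_structure _, isTop_genericPoint hdim⟩).le
      | succ e => exact step k (fun e' he' => ih e' (Nat.lt_succ_iff.2 he')) hdim hL hn hA

/-- Kleiman's theorem: the intersection numbers `(L^i · A^{d-i} · F)` are non-negative. -/
theorem tc_nonneg {d : ℕ} {L A F : X.Modules} (hL : PicF.IsInvertible L)
    (hn : NumR.IsNef k X L) (hA : CohB1.IsAmple A) (hF : Coh.IsCoh F)
    (hd : DimLT (CohB1.support F) (d + 1)) {i : ℕ} (hi : i ≤ d) : 0 ≤ tc d i (phi k 2 ![L, A] F) :=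
  tc_nonneg_of_hyp k (nefHyp k d) hL hn hA hF hd hi

include k in
/-- Nef plus ample is ample. -/
theorem isAmple_of_nef {L A D : X.Modules} (hL : PicF.IsInvertible L) (hn : NumR.IsNef k X L)
    (hA : CohB1.IsAmple A) (hD : PicF.IsInvertible D) {p q : ℕ} (hq : 0 < q)
    (hcls : clsMod hD = clsMod hL ^ p * clsMod hA.1 ^ q) : CohB1.IsAmple D := by
  haveI := Euler.isNoetherian_of_proper (X := X) k
  refine Nakai.isAmple_of_pos k hD fun x m hm hx => ?_
  have hxd : DimLT (CohB1.support (ptMod x)) (m + 1) := hx.dimLT.mono (Snapper.support_ptMod x)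
  have hxc := Snapper.isCoh_ptMod x
  rw [lead_eq k hL hA.1 hD hcls hxc hxd]
  refine mul_pos ?_ (by exact_mod_cast m.factorial_pos)
  refine lt_of_lt_of_le ?_ (Finset.single_le_sum (fun i hi => ?_) (Finset.mem_range.2 (Nat.succ_pos m)))
  · have hq' : (0 : ℚ) < q := by exact_mod_cast hq
    have := tc_zero_pos k hL hA hxc hxd ⟨x, mem_support_ptMod k x, hx⟩
    simp only [pow_zero, mul_one, Nat.sub_zero]
    positivity
  · exact mul_nonneg (mul_nonneg (tc_nonneg k hL hn hA hxc hxd (Nat.lt_succ_iff.1 (Finset.mem_range.1 hi)))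
      (pow_nonneg (Nat.cast_nonneg _) _)) (pow_nonneg (Nat.cast_nonneg _) _)

include k in
/-- Conversely, if all `L^ν ⊗ A` are ample then `L` is nef. -/
theorem isNef_of_isAmple {L A : X.Modules} (hL : PicF.IsInvertible L) (hA : CohB1.IsAmple A)
    (h : ∀ ν : ℕ, 0 < ν → CohB1.IsAmple (CohB1.tensorMod (CohB1.tensorPow L ν) A)) : NumR.IsNef k X L := by
  intro Y i hi hY hdim
  haveI := hY
  letI : Y.Over (Spec (CommRingCat.of k)) := ⟨i ≫ X ↘ Spec (CommRingCat.of k)⟩
  haveI : IsProper (Y ↘ Spec (CommRingCat.of k)) := inferInstanceAs (IsProper (i ≫ X ↘ Spec (CommRingCat.of k)))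
  let L' := (Scheme.Modules.pullback i).obj L
  let A' := (Scheme.Modules.pullback i).obj A
  have hL' : PicF.IsInvertible L' := isInv_pullback i hL
  have hA' : CohB1.IsAmple A' := Ample.isAmple_pullback_of_isAffineHom i hA
  have hdim' : topologicalKrullDim Y = ((1 : ℕ) : WithBot ℕ∞) := hdim
  have hd : DimLT (CohB1.support (Coh.structureModule Y)) (1 + 1) :=
    (dimLT_univ hdim'.le).mono fun _ _ => trivial
  have hO := isCoh_O (X := Y) k
  show 0 ≤ Pic13.curveDeg k (Y ↘ Spec (CommRingCat.of k)) L'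
  by_contra hneg
  push Not at hneg
  have hc : tc 1 1 (phi k 2 ![L', A'] (Coh.structureModule Y)) ≤ -1 := by
    rw [tc_one_curve k hdim.le hL' hA'.1]
    exact_mod_cast (show Pic13.curveDeg k (Y ↘ Spec (CommRingCat.of k)) L' ≤ -1 by omega)
  obtain ⟨ν, hν⟩ := exists_nat_gt (tc 1 0 (phi k 2 ![L', A'] (Coh.structureModule Y)))
  have hA1 := h (ν + 1) (Nat.succ_pos ν)
  let D' := (Scheme.Modules.pullback i).obj (CohB1.tensorMod (CohB1.tensorPow L (ν + 1)) A)
  have hD' : CohB1.IsAmple D' := Ample.isAmple_pullback_of_isAffineHom i hA1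
  have hcls : clsMod hD'.1 = clsMod hL' ^ (ν + 1) * clsMod hA'.1 ^ 1 := by
    rw [Cube.clsMod_pullback i hA1.1, Cube.clsMod_pullback i hL, Cube.clsMod_pullback i hA.1,
      Cube.clsMod_tensorMod (Ample.isInvertible_tensorPow hL _) hA.1, Cube.clsMod_tensorPow, map_mul, map_pow, pow_one]
  have hp := Snapper.mixed_pos k 1 Y D' hD' (Coh.structureModule Y) hO hd
    ⟨genericPoint Y, mem_support_structure _, isTop_genericPoint hdim'⟩
  rw [lead_eq k hL' hA'.1 hD'.1 hcls hO hd] at hp
  simp [Finset.sum_range_succ] at hp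
  nlinarith

end GrothLib.Kleiman
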