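import Groth.Agent.Lib.Kleiman.Kleiman
import Groth.Agent.Lib.NefGrowth.NumTriv
import Groth.Agent.Lib.NefGrowth.ProjAmple
import Groth.Agent.Lib.Snapper.PushTop
import Groth.Agent.Lib.Chow.Projective
import Groth.Agent.Lib.ProjSp.OverAffine

/-!
# Nef modules on proper schemes
-/

set_option autoImplicit false
set_option backward.isDefEq.respectTransparency false
set_option linter.all false

universe u

open CategoryTheory CategoryTheory.Limits AlgebraicGeometry TopologicalSpace

noncomputable section

namespace GrothLib.Kleiman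

open GrothLib.Euler (tF)
open GrothLib.Snapper (DimLT IsTop phi mixed ptMod invPows polyLT)

variable {X : Scheme.{u}} (k : Type u) [Field k] [X.Over (Spec (CommRingCat.of k))]
  [IsProper (X ↘ Spec (CommRingCat.of k))]

/-- `χ(O_C ⊗ L)` is computed on the curve. -/
theorem euler_pullback_eq_quotMod {Y : Scheme.{u}} (i : Y ⟶ X) [IsClosedImmersion i]
    [Y.Over (Spec (CommRingCat.of k))]
    (hi : i ≫ X ↘ Spec (CommRingCat.of k) = Y ↘ Spec (CommRingCat.of k))
    {E : X.Modules} (hE : PicF.IsInvertible E) :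
    Curv2.euler k Y ((Scheme.Modules.pullback i).obj E) =
      Curv2.euler k X (CohB1.tensorMod (ClSub.quotMod i.ker) E) := by
  letI : i.ker.subscheme.Over (Spec (CommRingCat.of k)) := ⟨i.ker.subschemeι ≫ X ↘ Spec (CommRingCat.of k)⟩
  let e := i.toImage
  haveI : IsIso e := inferInstance
  have he : e ≫ i.ker.subschemeι = i := i.toImage_imageι
  have hEi := Ample.isInvertible_pullback i.ker.subschemeι hE
  have hov : e ≫ i.ker.subscheme ↘ Spec (CommRingCat.of k) = Y ↘ Spec (CommRingCat.of k) := by
    show e ≫ i.ker.subschemeι ≫ X ↘ Spec (CommRingCat.of k) = _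
    rw [← Category.assoc, he, hi]
  refine Eq.trans ?_ (Snapper.euler_tF_quotMod k i.ker (Euler.isFinLocFree_of_isInvertible hE)).symm
  haveI : ((Scheme.Modules.pullback i).obj E).IsQuasicoherent :=
    Euler.isQuasicoherent_of_isFinLocFree (Euler.isFinLocFree_of_isInvertible (Ample.isInvertible_pullback i hE))
  rw [← Snapper.euler_pushforward e hov ((Scheme.Modules.pullback i).obj E)]
  haveI : ((Scheme.Modules.pullback i.ker.subschemeι).obj E).IsQuasicoherent :=
    Euler.isQuasicoherent_of_isFinLocFree (Euler.isFinLocFree_of_isInvertible hEi)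
  haveI := QCoh.isIso_unit_of_killed e ((Scheme.Modules.pullback i.ker.subschemeι).obj E) fun U a ha m => by
    rw [Scheme.Hom.ker_eq_bot_of_isIso] at ha
    rw [show a = 0 by simpa using ha, zero_smul]
  refine Euler.euler_of_iso k ?_
  exact (Scheme.Modules.pushforward e).mapIso
      ((Scheme.Modules.pullbackCongr he.symm).app E ≪≫ ((Scheme.Modules.pullbackComp e i.ker.subschemeι).app E).symm) ≪≫
    (asIso ((Scheme.Modules.pullbackPushforwardAdjunction e).unit.app
      ((Scheme.Modules.pullback i.ker.subschemeι).obj E))).symm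

theorem euler_tensor_structure (F : X.Modules) :
    Curv2.euler k X (CohB1.tensorMod F (Coh.structureModule X)) = Curv2.euler k X F :=
  Euler.euler_of_iso k (Euler.tFUnitIso F)

/-- Nefness from Euler characteristics on the curves. -/
theorem isNef_of_euler {L : X.Modules} (hL : PicF.IsInvertible L)
    (h : ∀ C : X.IdealSheafData, IsIntegral C.subscheme →
      topologicalKrullDim (C.support : Set X) = 1 →
        0 ≤ Curv2.euler k X (CohB1.tensorMod (ClSub.quotMod C) L) - Curv2.euler k X (ClSub.quotMod C)) :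
    NumR.IsNef k X L := by
  intro Y i hi hY hdim
  haveI := hY
  letI : Y.Over (Spec (CommRingCat.of k)) := ⟨i ≫ X ↘ Spec (CommRingCat.of k)⟩
  haveI : IsProper (Y ↘ Spec (CommRingCat.of k)) := inferInstanceAs (IsProper (i ≫ X ↘ Spec (CommRingCat.of k)))
  haveI : IsIso i.toImage := inferInstance
  haveI : Nonempty i.ker.subscheme := (IsIntegral.nonempty (X := Y)).map i.toImage
  haveI : IsIntegral i.ker.subscheme := isIntegral_of_isOpenImmersion (inv i.toImage)
  have hd : topologicalKrullDim (i.ker.support : Set X) = 1 := by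
    rw [← hdim, ← Scheme.IdealSheafData.range_subschemeι]
    refine ((IsHomeomorph.topologicalKrullDim_eq _
      i.ker.subschemeι.isClosedEmbedding.isEmbedding.toHomeomorph.isHomeomorph).symm).trans ?_
    exact (IsHomeomorph.topologicalKrullDim_eq _ i.toImage.homeomorph.isHomeomorph).symm
  have h1 := h i.ker inferInstance hd
  show 0 ≤ Pic13.curveDeg k (Y ↘ Spec (CommRingCat.of k)) ((Scheme.Modules.pullback i).obj L)
  rw [curveDeg_eq_euler k hdim.le (Ample.isInvertible_pullback i hL), euler_pullback_eq_quotMod k i rfl hL]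
  have h2 : Curv2.euler k Y (Coh.structureModule Y) = Curv2.euler k X (ClSub.quotMod i.ker) := by
    rw [← Euler.euler_of_iso k (Ample.nonempty_pullback_structureModule i).some,
      euler_pullback_eq_quotMod k i rfl Euler.isInvertible_structure]
    exact euler_tensor_structure k _
  rw [h2]
  exact h1

omit [X.Over (Spec (CommRingCat.of k))] [IsProper (X ↘ Spec (CommRingCat.of k))] in
theorem ptDim_eq_zero_of_isClosed {Y : Scheme.{u}} {y : Y} (hy : IsClosed ({y} : Set Y)) :
    AffDom.ptDim y = 0 := by
  show topologicalKrullDim (closure ({y} : Set Y)) = 0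
  rw [hy.closure_eq]
  refine le_antisymm (topologicalKrullDim_zero_of_discreteTopology ({y} : Set Y)) ?_
  haveI : Nonempty (IrreducibleCloseds ({y} : Set Y)) :=
    ⟨⟨closure {(⟨y, rfl⟩ : ({y} : Set Y))}, isIrreducible_singleton.closure, isClosed_closure⟩⟩
  exact Order.krullDim_nonneg

/-- An integral proper scheme is the image of a projective one of the same dimension. -/
theorem exists_projective_cover [IsIntegral X] {d : ℕ} (hd : topologicalKrullDim X = (d : WithBot ℕ∞)) :
    ∃ (Z : Scheme.{u}) (g : Z ⟶ X) (_ : IsIntegral Z),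
      IsProper (g ≫ X ↘ Spec (CommRingCat.of k)) ∧ topologicalKrullDim Z = (d : WithBot ℕ∞) ∧
        g (genericPoint Z) = genericPoint X ∧ ∃ H : Z.Modules, CohB1.IsAmple H := by
  obtain ⟨M, X', π, i, hi, hib, hπ, hsurj⟩ := Chow.chow (X ↘ Spec (CommRingCat.of k))
  haveI := hπ
  haveI := hi
  let ξ := genericPoint X
  haveI : CompactSpace (π.fiber ξ) := QuasiCompact.compactSpace_of_compactSpace (π.fiberToSpecResidueField ξ)
  haveI : Nonempty (π.fiber ξ) := by
    obtain ⟨z, hz⟩ := hsurj.surj ξ
    exact ⟨(π.fiberHomeo ξ).symm ⟨z, hz⟩⟩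
  obtain ⟨p, -, hp⟩ := (isClosed_univ : IsClosed (Set.univ : Set (π.fiber ξ))).exists_closed_singleton
    Set.univ_nonempty
  let z := π.fiberι ξ p
  have hz : π z = ξ := by
    have : z ∈ Set.range (π.fiberι ξ) := ⟨p, rfl⟩
    rw [Scheme.Hom.range_fiberι] at this
    exact this
  have hzd : AffDom.ptDim z = (d : WithBot ℕ∞) := by
    have h := AffDom.ptDim_fiberι π (X ↘ Spec (CommRingCat.of k)) ξ p
    rw [ptDim_eq_zero_of_isClosed hp, add_zero] at h
    rw [show AffDom.ptDim z = AffDom.ptDim (π.fiberι ξ p) from rfl, h]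
    show topologicalKrullDim (closure ({ξ} : Set X)) = _
    rw [(genericPoint_spec X).def]
    exact (IsHomeomorph.topologicalKrullDim_eq _ (Homeomorph.Set.univ X).isHomeomorph).trans hd
  let I := Scheme.IdealSheafData.vanishingIdeal (⟨closure ({z} : Set X'), isClosed_closure⟩ : Closeds X')
  haveI hI : IsIntegral I.subscheme := Snapper.isIntegral_pt z
  have hgen : I.subschemeι (genericPoint I.subscheme) = z := by
    have h := (genericPoint_spec I.subscheme).image I.subschemeι.continuous
    rw [Set.image_univ, Snapper.range_pt, closure_closure] at h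
    exact h.eq isGenericPoint_closure
  haveI : IsProper (π ≫ X ↘ Spec (CommRingCat.of k)) := inferInstance
  refine ⟨I.subscheme, I.subschemeι ≫ π, hI, inferInstance, ?_, ?_, ?_⟩
  · refine (IsHomeomorph.topologicalKrullDim_eq _
      I.subschemeι.isClosedEmbedding.isEmbedding.toHomeomorph.isHomeomorph).trans ?_
    rw [Snapper.range_pt]
    exact hzd
  · rw [Scheme.Hom.comp_apply, hgen, hz]
  · haveI : IsProper (i ≫ CohB1.ProjSpaceOver.toBase M (Spec (CommRingCat.of k))) := hib ▸ inferInstance
    haveI := Chow.isProper_toBase M (Spec (CommRingCat.of k))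
    haveI : IsProper i := IsProper.of_comp i (CohB1.ProjSpaceOver.toBase M (Spec (CommRingCat.of k)))
    haveI : IsClosedImmersion i := Chow.isClosedImmersion_of_isImmersion_of_isProper i
    haveI := Ample.ProjMap.isClosedImmersion_toProjSpace M k
    exact NefGrowth.exists_isAmple_of_projSpace (I.subschemeι ≫ i ≫ Ample.ProjMap.toProjSpace M k)

omit [X.Over (Spec (CommRingCat.of k))] [IsProper (X ↘ Spec (CommRingCat.of k))] in
theorem residueDegree_id (x : X) : (𝟙 X : X ⟶ X).residueDegree x = 1 := by
  unfold Scheme.Hom.residueDegree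
  rw [Scheme.residueFieldMap_id]
  exact Module.finrank_self _

omit [IsProper (X ↘ Spec (CommRingCat.of k))] in
theorem mixed_one (L F : X.Modules) :
    mixed 1 (phi k 1 (fun _ => L) F) =
      (Curv2.euler k X ((tF L).obj F) : ℚ) - (Curv2.euler k X F : ℚ) := by
  have h := Snapper.phi_add_single k (fun _ : Fin 1 => L) F 0 0
  rw [zero_add, Snapper.phi_zero] at h
  show ∑ S : Finset (Fin 1), (-1 : ℚ) ^ (1 - S.card) * phi k 1 (fun _ => L) F (Snapper.ind S) = _
  rw [show (Finset.univ : Finset (Finset (Fin 1))) = {∅, {0}} by decide, Finset.sum_pair (by decide),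
    show Snapper.ind (∅ : Finset (Fin 1)) = 0 by funext i; simp [Snapper.ind],
    show Snapper.ind ({0} : Finset (Fin 1)) = Pi.single 0 1 by
      funext i; fin_cases i; simp [Snapper.ind], h, Snapper.phi_zero]
  simp
  ring

/-- The degree as a top mixed difference. -/
theorem mixed_one_eq_curveDeg {L : X.Modules} (hL : PicF.IsInvertible L) (hd : topologicalKrullDim X ≤ 1) :
    mixed 1 (phi k 1 (fun _ => L) (Coh.structureModule X)) =
      (Pic13.curveDeg k (X ↘ Spec (CommRingCat.of k)) L : ℚ) := by
  rw [mixed_one, curveDeg_eq_euler k hd hL]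
  have h : Curv2.euler k X ((tF L).obj (Coh.structureModule X)) = Curv2.euler k X L :=
    Euler.euler_of_iso k (OX.tensorUnitLeftIso L)
  rw [h]
  push_cast
  rfl

/-- Nefness is preserved by proper pullback. -/
theorem isNef_pullback_proper {L : X.Modules} (hL : PicF.IsInvertible L) (hn : NumR.IsNef k X L)
    {Z : Scheme.{u}} [Z.Over (Spec (CommRingCat.of k))] [IsProper (Z ↘ Spec (CommRingCat.of k))] (g : Z ⟶ X)
    (hg : g ≫ X ↘ Spec (CommRingCat.of k) = Z ↘ Spec (CommRingCat.of k)) :
    NumR.IsNef k Z ((Scheme.Modules.pullback g).obj L) := by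
  intro Y i hi hY hdim
  haveI := hY
  letI : Y.Over (Spec (CommRingCat.of k)) := ⟨i ≫ Z ↘ Spec (CommRingCat.of k)⟩
  haveI : IsProper (Y ↘ Spec (CommRingCat.of k)) := inferInstanceAs (IsProper (i ≫ Z ↘ Spec (CommRingCat.of k)))
  have hp : (i ≫ g) ≫ X ↘ Spec (CommRingCat.of k) = Y ↘ Spec (CommRingCat.of k) := by
    rw [Category.assoc, hg]
    rfl
  have hdim' : topologicalKrullDim Y = ((1 : ℕ) : WithBot ℕ∞) := hdim
  have hY1 := isInv_pullback (i ≫ g) hL
  show 0 ≤ Pic13.curveDeg k (Y ↘ Spec (CommRingCat.of k))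
    ((Scheme.Modules.pullback i).obj ((Scheme.Modules.pullback g).obj L))
  rw [curveDeg_eq_euler k hdim.le (isInv_pullback i (isInv_pullback g hL)),
    Euler.euler_of_iso k (show (Scheme.Modules.pullback i).obj ((Scheme.Modules.pullback g).obj L) ≅
      (Scheme.Modules.pullback (i ≫ g)).obj L from (Scheme.Modules.pullbackComp i g).app L),
    ← curveDeg_eq_euler k hdim.le hY1]
  have h1 := Snapper.mixed_eq_zero (Snapper.phi_pullback_sub_mem (k := k) (g := i ≫ g) hp hdim' (r := 1)
    (L := fun _ => L) (fun _ => hL))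
  rw [map_sub, map_nsmul, sub_eq_zero, mixed_one_eq_curveDeg k hY1 hdim.le, nsmul_eq_mul] at h1
  suffices h : (0 : ℚ) ≤ Pic13.curveDeg k (Y ↘ Spec (CommRingCat.of k)) ((Scheme.Modules.pullback (i ≫ g)).obj L) by
    exact_mod_cast h
  rw [h1]
  by_cases hw : IsTop 1 ((i ≫ g) (genericPoint Y))
  · refine mul_nonneg (Nat.cast_nonneg _) ?_
    generalize (i ≫ g) (genericPoint Y) = w at hw
    let I := Scheme.IdealSheafData.vanishingIdeal (⟨closure ({w} : Set X), isClosed_closure⟩ : Closeds X)
    letI : I.subscheme.Over (Spec (CommRingCat.of k)) := ⟨I.subschemeι ≫ X ↘ Spec (CommRingCat.of k)⟩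
    haveI : IsProper (I.subscheme ↘ Spec (CommRingCat.of k)) :=
      inferInstanceAs (IsProper (I.subschemeι ≫ X ↘ Spec (CommRingCat.of k)))
    haveI : IsIntegral I.subscheme := Snapper.isIntegral_pt w
    have hI : topologicalKrullDim I.subscheme = 1 := by
      refine (IsHomeomorph.topologicalKrullDim_eq _
        I.subschemeι.isClosedEmbedding.isEmbedding.toHomeomorph.isHomeomorph).trans ?_
      rw [Snapper.range_pt]
      exact hw
    have he : phi k 1 (fun _ => L) (ptMod w) =
        phi k 1 (fun _ => (Scheme.Modules.pullback I.subschemeι).obj L) (Coh.structureModule I.subscheme) := by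
      funext n
      refine (Snapper.phi_push k I.subschemeι rfl (fun _ => hL) n).trans ?_
      exact congrArg Int.cast (Euler.euler_of_iso k (OX.tensorUnitLeftIso _).symm)
    rw [he, mixed_one_eq_curveDeg k (isInv_pullback I.subschemeι hL) hI.le]
    exact_mod_cast hn I.subscheme I.subschemeι inferInstance hI
  · rw [Snapper.residueDegree_eq_zero (k := k) (g := i ≫ g) hp hdim' hw, Nat.cast_zero, zero_mul]

/-- The top self-intersection of a nef module on a proper integral scheme is non-negative. -/
theorem mixed_nonneg_of_nef [IsIntegral X] {d : ℕ} (hd : topologicalKrullDim X = (d : WithBot ℕ∞))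
    {L : X.Modules} (hL : PicF.IsInvertible L) (hn : NumR.IsNef k X L) :
    0 ≤ mixed d (phi k d (fun _ => L) (Coh.structureModule X)) := by
  haveI := Euler.isNoetherian_of_proper (X := X) k
  obtain ⟨Z, g, hZ, hgp, hZd, hgen, H, hH⟩ := exists_projective_cover k hd
  haveI := hZ
  letI : Z.Over (Spec (CommRingCat.of k)) := ⟨g ≫ X ↘ Spec (CommRingCat.of k)⟩
  haveI : IsProper (Z ↘ Spec (CommRingCat.of k)) := hgp
  have hL' := isInv_pullback g hL
  have hn' : NumR.IsNef k Z ((Scheme.Modules.pullback g).obj L) := isNef_pullback_proper k hL hn g rfl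
  have hZc : DimLT (CohB1.support (Coh.structureModule Z)) (d + 1) :=
    (dimLT_univ hZd.le).mono fun _ _ => trivial
  have hnn : 0 ≤ mixed d (phi k d (fun _ => (Scheme.Modules.pullback g).obj L) (Coh.structureModule Z)) := by
    rw [NefGrowth.mixed_eq_tc k hL' hH.1 (isCoh_O k) hZc]
    exact mul_nonneg (tc_nonneg k hL' hn' hH (isCoh_O k) hZc le_rfl) (Nat.cast_nonneg _)
  have h1 := Snapper.phi_pullback_sub_mem (k := k) (g := g) rfl hZd (r := d) (L := fun _ => L) (fun _ => hL)
  have h2 := Snapper.phi_pullback_sub_mem (k := k) (g := 𝟙 X) (Category.id_comp _) hd (r := d)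
    (L := fun _ => L) (fun _ => hL)
  rw [NefGrowth.phi_pullback_id k hL d] at h2
  change phi k d _ _ - (𝟙 X : X ⟶ X).residueDegree (genericPoint X) • phi k d _ (ptMod (genericPoint X)) ∈ _ at h2
  have hdeg1 := residueDegree_id (genericPoint X)
  have e1 := Snapper.mixed_eq_zero h1
  have e2 := Snapper.mixed_eq_zero h2
  rw [map_sub, map_nsmul, sub_eq_zero, hgen] at e1
  rw [map_sub, map_nsmul, sub_eq_zero, hdeg1, one_smul] at e2
  rw [e1, ← e2, nsmul_eq_mul] at hnn
  refine nonneg_of_mul_nonneg_right (by rwa [mul_comm] at hnn) ?_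
  have hfin := (Snapper.isTop_iff_finite (k := k) (g := g) rfl hZd).1 (hgen ▸ Snapper.isTop_genericPoint hd)
  letI := (g.residueFieldMap (genericPoint Z)).hom.toAlgebra
  haveI : Module.Finite (X.residueField (g (genericPoint Z))) (Z.residueField (genericPoint Z)) := hfin
  exact_mod_cast (Module.finrank_pos (R := X.residueField (g (genericPoint Z)))
    (M := Z.residueField (genericPoint Z)))

end GrothLib.Kleiman
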