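import Groth.Agent.Lib.Kleiman.Surjective
import Groth.Agent.Lib.Hilb20.FieldExt
import Groth.Agent.Lib.Cube.Pic
import Groth.Agent.Lib.Dim.Scheme
import Groth.Agent.Lib.Snapper.Degree
import Groth.Agent.Lib.CurveLocus.Basic

/-!
# Nefness and extensions of the base field
-/

universe u

set_option backward.isDefEq.respectTransparency false
set_option linter.all false

open CategoryTheory CategoryTheory.Limits AlgebraicGeometry TopologicalSpace

noncomputable section

namespace GrothLib.Kleiman

variable {X : Scheme.{u}} (k : Type u) [Field k] [X.Over (Spec (CommRingCat.of k))]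
  [IsProper (X ↘ Spec (CommRingCat.of k))] (K : Type u) [Field K] [Algebra k K]

/-- A proper scheme is dominated by a projective one. -/
theorem exists_projective_surjection :
    ∃ (Z : Scheme.{u}) (g : Z ⟶ X), Surjective g ∧ IsProper (g ≫ X ↘ Spec (CommRingCat.of k)) ∧
      ∃ H : Z.Modules, CohB1.IsAmple H := by
  obtain ⟨M, X', π, i, hi, hib, hπ, hsurj⟩ := Chow.chow (X ↘ Spec (CommRingCat.of k))
  haveI := hπ
  haveI := hi
  haveI : IsProper (π ≫ X ↘ Spec (CommRingCat.of k)) := inferInstance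
  refine ⟨X', π, hsurj, inferInstance, ?_⟩
  haveI : IsProper (i ≫ CohB1.ProjSpaceOver.toBase M (Spec (CommRingCat.of k))) := hib ▸ inferInstance
  haveI := Chow.isProper_toBase M (Spec (CommRingCat.of k))
  haveI : IsProper i := IsProper.of_comp i (CohB1.ProjSpaceOver.toBase M (Spec (CommRingCat.of k)))
  haveI : IsClosedImmersion i := Chow.isClosedImmersion_of_isImmersion_of_isProper i
  haveI := Ample.ProjMap.isClosedImmersion_toProjSpace M k
  exact NefGrowth.exists_isAmple_of_projSpace (i ≫ Ample.ProjMap.toProjSpace M k)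

variable {k} in
/-- The base change of a morphism over the base field. -/
def bcMap {Z : Scheme.{u}} [Z.Over (Spec (CommRingCat.of k))] (g : Z ⟶ X)
    (hg : g ≫ X ↘ Spec (CommRingCat.of k) = Z ↘ Spec (CommRingCat.of k)) :
    Curv2.bc k Z K ⟶ Curv2.bc k X K :=
  pullback.map _ _ _ _ g (𝟙 _) (𝟙 _) (by rw [Category.comp_id, hg]) (by simp)

variable {k} in
theorem bcMap_spec {Z : Scheme.{u}} [Z.Over (Spec (CommRingCat.of k))] (g : Z ⟶ X)
    (hg : g ≫ X ↘ Spec (CommRingCat.of k) = Z ↘ Spec (CommRingCat.of k)) :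
    bcMap K g hg ≫ Curv2.bcSnd k X K = Curv2.bcSnd k Z K ∧
      IsPullback (bcMap K g hg) (Curv2.bcFst k Z K) (Curv2.bcFst k X K) g := by
  have h1 : bcMap K g hg ≫ Curv2.bcFst k X K = Curv2.bcFst k Z K ≫ g := pullback.lift_fst _ _ _
  have h2 : bcMap K g hg ≫ Curv2.bcSnd k X K = Curv2.bcSnd k Z K := (pullback.lift_snd _ _ _).trans (Category.comp_id _)
  refine ⟨h2, IsPullback.of_right (h₁₂ := Curv2.bcSnd k X K) (v₁₃ := Spec.map (CommRingCat.ofHom (algebraMap k K)))
    (h₂₂ := X ↘ Spec (CommRingCat.of k)) ?_ h1 (IsPullback.of_hasPullback _ _).flip⟩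
  rw [h2, hg]
  exact (IsPullback.of_hasPullback _ _).flip

include k in
/-- Nefness is stable under extension of the base field. -/
theorem isNef_bc {L : X.Modules} (hL : PicF.IsInvertible L) (hn : NumR.IsNef k X L) :
    NumR.IsNef K (Curv2.bc k X K) ((Scheme.Modules.pullback (Curv2.bcFst k X K)).obj L) := by
  obtain ⟨Z, g, hgs, hgp, H, hH⟩ := exists_projective_surjection (X := X) k
  haveI := hgs
  letI : Z.Over (Spec (CommRingCat.of k)) := ⟨g ≫ X ↘ Spec (CommRingCat.of k)⟩
  haveI : IsProper (Z ↘ Spec (CommRingCat.of k)) := hgp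
  haveI := Hilb20.isProper_bc (X := X) k K
  haveI := Hilb20.isProper_bc (X := Z) k K
  obtain ⟨hsnd, hpb⟩ := bcMap_spec (k := k) K g rfl
  haveI : Surjective (bcMap (k := k) K g rfl) := MorphismProperty.of_isPullback hpb.flip hgs
  let L₁ := (Scheme.Modules.pullback g).obj L
  have hL₁ : PicF.IsInvertible L₁ := Ample.isInvertible_pullback g hL
  have hn₁ : NumR.IsNef k Z L₁ := isNef_pullback_proper k hL hn g rfl
  let q := Curv2.bcFst k Z K
  haveI : IsAffineHom (Spec.map (CommRingCat.ofHom (algebraMap k K))) := inferInstance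
  haveI : IsAffineHom q := MorphismProperty.pullback_fst _ _ inferInstance
  have hL₂ : PicF.IsInvertible ((Scheme.Modules.pullback q).obj L₁) := Ample.isInvertible_pullback q hL₁
  have key : NumR.IsNef K (Curv2.bc k Z K) ((Scheme.Modules.pullback q).obj L₁) := by
    refine isNef_of_isAmple K hL₂ (Ample.isAmple_pullback_of_isAffineHom q hH) fun ν hν => ?_
    have hD : CohB1.IsAmple (CohB1.tensorMod (CohB1.tensorPow L₁ ν) H) := by
      refine isAmple_of_nef k hL₁ hn₁ hH (Ample.isInvertible_tensorMod (Ample.isInvertible_tensorPow hL₁ ν) hH.1)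
        (p := ν) (q := 1) one_pos ?_
      rw [Cube.clsMod_tensorMod (Ample.isInvertible_tensorPow hL₁ ν) hH.1, Cube.clsMod_tensorPow hL₁ ν, pow_one]
    have h2 := Ample.isAmple_pullback_of_isAffineHom q hD
    obtain ⟨e₁⟩ := Ample.nonempty_pullback_tensorMod q (Ample.isInvertible_tensorPow hL₁ ν) hH.1
    obtain ⟨e₂⟩ := Ample.nonempty_pullback_tensorPow q hL₁ ν
    refine (Ample.isAmple_iff_of_iso (e₁ ≪≫ ?_)).1 h2
    exact ((DCoh.tensorBi (X := Curv2.bc k Z K)).mapIso e₂).app _
  refine isNef_of_surjective K (bcMap (k := k) K g rfl) hsnd (Ample.isInvertible_pullback _ hL) ?_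
  have e : (Scheme.Modules.pullback q).obj L₁ ≅ (Scheme.Modules.pullback (bcMap (k := k) K g rfl)).obj
      ((Scheme.Modules.pullback (Curv2.bcFst k X K)).obj L) :=
    (Scheme.Modules.pullbackComp q g).app L ≪≫ (Scheme.Modules.pullbackCongr hpb.w.symm).app L ≪≫
      ((Scheme.Modules.pullbackComp (bcMap (k := k) K g rfl) (Curv2.bcFst k X K)).app L).symm
  intro Y i hi hY hdim
  haveI := hY
  letI : Y.Over (Spec (CommRingCat.of K)) := ⟨i ≫ Curv2.bc k Z K ↘ Spec (CommRingCat.of K)⟩
  haveI : IsProper (Y ↘ Spec (CommRingCat.of K)) :=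
    inferInstanceAs (IsProper (i ≫ Curv2.bc k Z K ↘ Spec (CommRingCat.of K)))
  have h : 0 ≤ Pic13.curveDeg K (Y ↘ Spec (CommRingCat.of K))
      ((Scheme.Modules.pullback i).obj ((Scheme.Modules.pullback q).obj L₁)) := key Y i hY hdim
  show 0 ≤ Pic13.curveDeg K (Y ↘ Spec (CommRingCat.of K)) _
  rw [curveDeg_eq_euler K hdim.le (Ample.isInvertible_pullback _ hL₂),
    Euler.euler_of_iso K ((Scheme.Modules.pullback i).mapIso e)] at h
  rw [curveDeg_eq_euler K hdim.le (Ample.isInvertible_pullback _ (Ample.isInvertible_pullback _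
    (Ample.isInvertible_pullback _ hL)))]
  exact h

include k in
/-- The degree on a proper one-dimensional scheme of a nef module is non-negative. -/
theorem deg_nonneg_of_isNef (hd : topologicalKrullDim X ≤ 1) {L : X.Modules} (hL : PicF.IsInvertible L)
    (hn : NumR.IsNef k X L) : 0 ≤ Curv2.deg k X L 1 := by
  classical
  haveI := Euler.isNoetherian_of_proper (X := X) k
  rw [Snapper.deg_eq_finsum k hd (Euler.isFinLocFreeOfRank_one' hL)]
  refine finsum_nonneg fun ξ => ?_
  by_cases hξ : Snapper.IsTop 1 ξ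
  · rw [Snapper.topTerm_of _ hξ]
    refine smul_nonneg (Nat.zero_le _) ?_
    have h := euler_of_isNef k hL hn (Scheme.IdealSheafData.vanishingIdeal
      (⟨closure ({ξ} : Set X), isClosed_closure⟩ : Closeds X))
      (Snapper.isIntegral_pt ξ) (by
        rw [Scheme.IdealSheafData.coe_support_vanishingIdeal]
        exact hξ)
    simp only [Snapper.degFun, Nat.cast_one, one_mul]
    exact h
  · rw [Snapper.topTerm, if_neg hξ]

include k K in
/-- Nefness descends along extensions of the base field. -/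
theorem isNef_of_bc {L : X.Modules} (hL : PicF.IsInvertible L)
    (hn : NumR.IsNef K (Curv2.bc k X K) ((Scheme.Modules.pullback (Curv2.bcFst k X K)).obj L)) :
    NumR.IsNef k X L := by
  intro Y i hi hY hdim
  haveI := hY
  letI : Y.Over (Spec (CommRingCat.of k)) := ⟨i ≫ X ↘ Spec (CommRingCat.of k)⟩
  haveI : IsProper (Y ↘ Spec (CommRingCat.of k)) := inferInstanceAs (IsProper (i ≫ X ↘ Spec (CommRingCat.of k)))
  haveI := Hilb20.isProper_bc (X := X) k K
  haveI := Hilb20.isProper_bc (X := Y) k K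
  haveI := Euler.isNoetherian_of_proper (X := Curv2.bc k Y K) K
  obtain ⟨hsnd, hpb⟩ := bcMap_spec (k := k) K i rfl
  haveI : IsClosedImmersion (bcMap (k := k) K i rfl) := MorphismProperty.of_isPullback hpb.flip hi
  let M := (Scheme.Modules.pullback i).obj L
  have hM : PicF.IsInvertible M := Ample.isInvertible_pullback i hL
  let M' := (Scheme.Modules.pullback (Curv2.bcFst k Y K)).obj M
  have hM' : PicF.IsInvertible M' := Ample.isInvertible_pullback _ hM
  have e : (Scheme.Modules.pullback (bcMap (k := k) K i rfl)).obj ((Scheme.Modules.pullback (Curv2.bcFst k X K)).obj L) ≅ M' :=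
    (Scheme.Modules.pullbackComp _ _).app L ≪≫ (Scheme.Modules.pullbackCongr hpb.w).app L ≪≫
      ((Scheme.Modules.pullbackComp (Curv2.bcFst k Y K) i).app L).symm
  have hd' : topologicalKrullDim (Curv2.bc k Y K) ≤ 1 :=
    (CurveLocus.topologicalKrullDim_of_isPullback (Y ↘ Spec (CommRingCat.of k)) (IsPullback.of_hasPullback _ _)).trans_le hdim.le
  have h1 : 0 ≤ Curv2.deg K (Curv2.bc k Y K) M' 1 := by
    rw [← Euler.deg_of_iso K e 1]
    exact deg_nonneg_of_isNef K hd' (Ample.isInvertible_pullback _ (Ample.isInvertible_pullback _ hL))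
      (isNef_pullback_proper K (Ample.isInvertible_pullback _ hL) hn (bcMap (k := k) K i rfl) hsnd)
  show 0 ≤ Pic13.curveDeg k (Y ↘ Spec (CommRingCat.of k)) M
  rw [curveDeg_eq_euler k hdim.le hM]
  haveI : M.IsQuasicoherent := (Euler.isCoh_of_isInvertible hM).1
  haveI : (Coh.structureModule Y).IsQuasicoherent := (Euler.isCoh_of_isInvertible Euler.isInvertible_structure).1
  rw [← Hilb20.euler_bc k K M, ← Hilb20.euler_bc k K (Coh.structureModule Y),
    Euler.euler_of_iso K (Ample.nonempty_pullback_structureModule (Curv2.bcFst k Y K)).some]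
  simp only [Curv2.deg, Nat.cast_one, one_mul] at h1
  exact h1

end GrothLib.Kleiman
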