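import Groth.Agent.Lib.Kleiman.Surjective
import Groth.Agent.Lib.Japanese.Curve
import Groth.Agent.Lib.Ref1.Extend
import Mathlib.AlgebraicGeometry.Normalization

/-!
# Regular curves over a curve on the target of a proper surjection
-/

universe u

set_option backward.isDefEq.respectTransparency false
set_option linter.all false

open CategoryTheory CategoryTheory.Limits AlgebraicGeometry TopologicalSpace
open GrothLib.Snapper (IsTop phi mixed ptMod)

noncomputable section

namespace GrothLib.Kleiman

variable (k : Type u) [Field k]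

/-- The normalization of an integral proper curve. -/
theorem exists_normal_curve {C : Scheme.{u}} [C.Over (Spec (CommRingCat.of k))]
    [IsProper (C ↘ Spec (CommRingCat.of k))] [IsIntegral C] (hd : topologicalKrullDim C = 1) :
    ∃ (N : Scheme.{u}) (ν : N ⟶ C) (_ : IsIntegral N),
      IsProper (ν ≫ C ↘ Spec (CommRingCat.of k)) ∧ topologicalKrullDim N = 1 ∧
      (∀ x : N, IsRegularLocalRing (N.presheaf.stalk x)) ∧ ν (genericPoint N) = genericPoint C := by
  let φ : C.functionField →+* C.functionField := RingHom.id _
  have hφ : φ.Finite := RingHom.Finite.id _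
  let g := C.fromSpecStalk (genericPoint C)
  have hg : g = Spec.map (CommRingCat.ofHom φ) ≫ C.fromSpecStalk (genericPoint C) := by
    rw [show CommRingCat.ofHom φ = 𝟙 _ from rfl, Spec.map_id, Category.id_comp]
  haveI : IsLocallyNoetherian C := LocallyOfFiniteType.isLocallyNoetherian (C ↘ Spec (CommRingCat.of k))
  haveI hfin : IsFinite g.fromNormalization :=
    Japanese.isFinite_fromNormalization k (C ↘ Spec (CommRingCat.of k)) φ hφ g hg
  haveI : IsDominant g.fromNormalization := by
    have hgd : DenseRange g := by
      refine Dense.mono ?_ (dense_iff_closure_eq.2 (genericPoint_spec C).def)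
      intro x hx
      rw [Set.mem_singleton_iff] at hx
      subst hx
      exact ⟨IsLocalRing.closedPoint _, Scheme.fromSpecStalk_closedPoint⟩
    haveI : IsDominant (g.toNormalization ≫ g.fromNormalization) := by
      rw [g.toNormalization_fromNormalization]; exact ⟨hgd⟩
    exact IsDominant.of_comp g.toNormalization g.fromNormalization
  haveI : Surjective g.fromNormalization := ⟨fun y => by
    have h := g.fromNormalization.denseRange.closure_range
    rw [g.fromNormalization.isClosedMap.isClosed_range.closure_eq] at h
    exact h.ge (Set.mem_univ y)⟩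
  let N := g.normalization
  have hgen : g.fromNormalization (genericPoint N) = genericPoint C := by
    have h := (genericPoint_spec N).image g.fromNormalization.continuous
    rw [Set.image_univ, g.fromNormalization.surjective.range_eq, closure_univ] at h
    exact h.eq (genericPoint_spec C)
  letI : N.Over (Spec (CommRingCat.of k)) := ⟨g.fromNormalization ≫ C ↘ Spec (CommRingCat.of k)⟩
  have hdim : topologicalKrullDim N = 1 := by
    let p : g.fromNormalization.fiber (genericPoint C) :=
      (g.fromNormalization.fiberHomeo _).symm ⟨genericPoint N, hgen⟩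
    have hp : IsClosed ({p} : Set (g.fromNormalization.fiber (genericPoint C))) := by
      haveI : DiscreteTopology (g.fromNormalization.fiber (genericPoint C)) :=
        haveI := (g.fromNormalization.isDiscrete_preimage_singleton (genericPoint C)).to_subtype
        (g.fromNormalization.fiberHomeo _).isEmbedding.discreteTopology
      exact isClosed_discrete _
    have h := AffDom.ptDim_fiberι g.fromNormalization (C ↘ Spec (CommRingCat.of k)) (genericPoint C) p
    rw [ptDim_eq_zero_of_isClosed hp, add_zero] at h
    have hp' : g.fromNormalization.fiberι _ p = genericPoint N :=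
      congrArg Subtype.val ((g.fromNormalization.fiberHomeo _).apply_symm_apply ⟨genericPoint N, hgen⟩)
    rw [hp'] at h
    change topologicalKrullDim (closure ({genericPoint N} : Set N)) = topologicalKrullDim (closure ({genericPoint C} : Set C)) at h
    rw [(genericPoint_spec N).def, (genericPoint_spec C).def] at h
    rw [← IsHomeomorph.topologicalKrullDim_eq _ (Homeomorph.Set.univ N).isHomeomorph, h,
      IsHomeomorph.topologicalKrullDim_eq _ (Homeomorph.Set.univ C).isHomeomorph, hd]
  haveI : IsLocallyNoetherian N := LocallyOfFiniteType.isLocallyNoetherian g.fromNormalization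
  refine ⟨N, g.fromNormalization, inferInstance, inferInstance, hdim, fun x => ?_, hgen⟩
  refine Ref1.isRegularLocalRing_of_dim_le_one
    (fun z => Japanese.isIntegrallyClosed_stalk_normalization k (C ↘ Spec (CommRingCat.of k)) φ hφ g hg z) ?_
  exact (Ref1.ringKrullDim_stalk_le_topologicalKrullDim x).trans hdim.le

/-- A curve on the target of a proper surjection is dominated by a regular curve mapping to the source. -/
theorem exists_curve_lift {X Y : Scheme.{u}} [X.Over (Spec (CommRingCat.of k))]
    [Y.Over (Spec (CommRingCat.of k))] [IsProper (X ↘ Spec (CommRingCat.of k))]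
    [IsProper (Y ↘ Spec (CommRingCat.of k))] (f : Y ⟶ X)
    (hf : f ≫ X ↘ Spec (CommRingCat.of k) = Y ↘ Spec (CommRingCat.of k)) [Surjective f]
    {C : Scheme.{u}} [C.Over (Spec (CommRingCat.of k))] [IsProper (C ↘ Spec (CommRingCat.of k))] [IsIntegral C]
    (hd : topologicalKrullDim C = 1) (g : C ⟶ X) :
    ∃ (N : Scheme.{u}) (π : N ⟶ C) (h : N ⟶ Y) (_ : IsIntegral N),
      IsProper (π ≫ C ↘ Spec (CommRingCat.of k)) ∧ topologicalKrullDim N = 1 ∧
      (∀ x : N, IsRegularLocalRing (N.presheaf.stalk x)) ∧ π (genericPoint N) = genericPoint C ∧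
      h ≫ f = π ≫ g := by
  haveI : IsProper (f ≫ X ↘ Spec (CommRingCat.of k)) := by rw [hf]; infer_instance
  haveI : IsProper f := IsProper.of_comp f (X ↘ Spec (CommRingCat.of k))
  let P := pullback g f
  let p₁ : P ⟶ C := pullback.fst g f
  haveI : IsProper p₁ := MorphismProperty.pullback_fst g f inferInstance
  haveI : Surjective p₁ := MorphismProperty.pullback_fst g f inferInstance
  let w := genericPoint C
  haveI : CompactSpace (p₁.fiber w) := QuasiCompact.compactSpace_of_compactSpace (p₁.fiberToSpecResidueField w)
  haveI : Nonempty (p₁.fiber w) := by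
    obtain ⟨z, hz⟩ := (inferInstance : Surjective p₁).surj w
    exact ⟨(p₁.fiberHomeo w).symm ⟨z, hz⟩⟩
  obtain ⟨p, -, hp⟩ := (isClosed_univ : IsClosed (Set.univ : Set (p₁.fiber w))).exists_closed_singleton
    Set.univ_nonempty
  let z := p₁.fiberι w p
  have hz : p₁ z = w := by
    have : z ∈ Set.range (p₁.fiberι w) := ⟨p, rfl⟩
    rw [Scheme.Hom.range_fiberι] at this
    exact this
  have hzd : topologicalKrullDim (closure ({z} : Set P)) = 1 := by
    have h := AffDom.ptDim_fiberι p₁ (C ↘ Spec (CommRingCat.of k)) w p
    rw [ptDim_eq_zero_of_isClosed hp, add_zero] at h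
    refine h.trans ?_
    show topologicalKrullDim (closure ({w} : Set C)) = 1
    rw [(genericPoint_spec C).def]
    exact (IsHomeomorph.topologicalKrullDim_eq _ (Homeomorph.Set.univ C).isHomeomorph).trans hd
  let I := Scheme.IdealSheafData.vanishingIdeal (⟨closure ({z} : Set P), isClosed_closure⟩ : Closeds P)
  haveI : IsIntegral I.subscheme := Snapper.isIntegral_pt z
  letI : I.subscheme.Over (Spec (CommRingCat.of k)) := ⟨I.subschemeι ≫ p₁ ≫ C ↘ Spec (CommRingCat.of k)⟩
  haveI : IsProper (I.subscheme ↘ Spec (CommRingCat.of k)) :=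
    inferInstanceAs (IsProper (I.subschemeι ≫ p₁ ≫ C ↘ Spec (CommRingCat.of k)))
  have hgenI : I.subschemeι (genericPoint I.subscheme) = z := by
    have h := (genericPoint_spec I.subscheme).image I.subschemeι.continuous
    rw [Set.image_univ, Snapper.range_pt, closure_closure] at h
    exact h.eq isGenericPoint_closure
  have hId : topologicalKrullDim I.subscheme = 1 := by
    refine (IsHomeomorph.topologicalKrullDim_eq _
      I.subschemeι.isClosedEmbedding.isEmbedding.toHomeomorph.isHomeomorph).trans ?_
    rw [Snapper.range_pt]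
    exact hzd
  obtain ⟨N, ν, hN, hνp, hNd, hreg, hνη⟩ := exists_normal_curve k hId
  refine ⟨N, ν ≫ I.subschemeι ≫ p₁, ν ≫ I.subschemeι ≫ pullback.snd g f, hN, ?_, hNd, hreg, ?_, ?_⟩
  · simp only [Category.assoc]
    exact hνp
  · rw [Scheme.Hom.comp_apply, Scheme.Hom.comp_apply, hνη, hgenI, hz]
  · simp only [Category.assoc]
    rw [← pullback.condition]

/-- Non-negativity of a degree can be tested after pulling back along a map of curves. -/
theorem deg_nonneg_of_pullback {C : Scheme.{u}} [C.Over (Spec (CommRingCat.of k))]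
    [IsProper (C ↘ Spec (CommRingCat.of k))] [IsIntegral C] (hd : topologicalKrullDim C = 1)
    {M : C.Modules} (hM : PicF.IsInvertible M) {N : Scheme.{u}} [IsIntegral N] [N.Over (Spec (CommRingCat.of k))]
    [IsProper (N ↘ Spec (CommRingCat.of k))] (hNd : topologicalKrullDim N = 1) (π : N ⟶ C)
    (hπ : π ≫ C ↘ Spec (CommRingCat.of k) = N ↘ Spec (CommRingCat.of k))
    (hgen : π (genericPoint N) = genericPoint C)
    (h : 0 ≤ Curv2.deg k N ((Scheme.Modules.pullback π).obj M) 1) : 0 ≤ Curv2.deg k C M 1 := by
  have hd' : topologicalKrullDim C = ((1 : ℕ) : WithBot ℕ∞) := hd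
  have hw : IsTop 1 (genericPoint C) := Snapper.isTop_genericPoint hd'
  obtain ⟨hpos, e⟩ := curveDeg_pullback_eq k hM π hπ hNd (hgen ▸ hw)
  obtain ⟨-, e1⟩ := curveDeg_pullback_eq k hM (𝟙 C) (Category.id_comp _) hd' hw
  rw [show (𝟙 C : C ⟶ C).residueDegree (genericPoint C) = 1 from residueDegree_id _, Nat.cast_one, one_mul] at e1
  rw [hgen] at e
  have e2 : ∀ {T : Scheme.{u}} [T.Over (Spec (CommRingCat.of k))] [IsProper (T ↘ Spec (CommRingCat.of k))]
      (_ : topologicalKrullDim T = 1) {P : T.Modules} (_ : PicF.IsInvertible P),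
      Pic13.curveDeg k (T ↘ Spec (CommRingCat.of k)) P = Curv2.deg k T P 1 := fun hT _ hP => by
    rw [curveDeg_eq_euler k hT.le hP, Curv2.deg, Nat.cast_one, one_mul]
  rw [e2 hNd (isInv_pullback π hM)] at e
  rw [e2 hd (isInv_pullback _ hM)] at e1
  have h1 : (0 : ℚ) ≤ (Curv2.deg k C ((Scheme.Modules.pullback (𝟙 C)).obj M) 1 : ℚ) := by
    have h0 : (0 : ℚ) ≤ (π.residueDegree (genericPoint N) : ℚ) *
        mixed 1 (phi k 1 (fun _ => M) (ptMod (genericPoint C))) := by
      rw [← e]; exact_mod_cast h
    rw [e1]
    exact nonneg_of_mul_nonneg_right (by rwa [mul_comm] at h0) (by exact_mod_cast hpos)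
  rw [Euler.deg_of_iso k ((Scheme.Modules.pullbackId C).app M) 1] at h1
  exact_mod_cast h1

end GrothLib.Kleiman
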