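import Groth.Agent.Lib.Kleiman.CurveLift
import Groth.Agent.Lib.Kleiman.FieldExt

/-!
# The test on regular curves
-/

universe u

set_option backward.isDefEq.respectTransparency false
set_option linter.all false

open CategoryTheory CategoryTheory.Limits AlgebraicGeometry TopologicalSpace

noncomputable section

namespace GrothLib.Kleiman

variable {X : Scheme.{u}} (k : Type u) [Field k] [X.Over (Spec (CommRingCat.of k))]

/-- The invertible quotients on all regular curves over `X` have non-negative degree. -/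
def CurveTest (E : X.Modules) : Prop :=
  ∀ (C : Scheme.{u}) [C.Over (Spec (CommRingCat.of k))] [IsProper (C ↘ (Spec (CommRingCat.of k)))] [IsIntegral C],
    topologicalKrullDim C = 1 → (∀ x : C, IsRegularLocalRing (C.presheaf.stalk x)) →
    ∀ (f : C ⟶ X), f ≫ (X ↘ (Spec (CommRingCat.of k))) = C ↘ (Spec (CommRingCat.of k)) →
    ∀ (M : C.Modules), PicF.IsInvertible M →
    ∀ (q : (Scheme.Modules.pullback f).obj E ⟶ M), Epi q → 0 ≤ Curv2.deg k C M 1

/-- An invertible quotient of a pullback is nef, under the test on regular curves. -/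
theorem isNef_quotient_of_curveTest {E : X.Modules} (hE : CurveTest k E) {C : Scheme.{u}}
    [C.Over (Spec (CommRingCat.of k))] [IsProper (C ↘ Spec (CommRingCat.of k))] (f : C ⟶ X)
    (hf : f ≫ X ↘ Spec (CommRingCat.of k) = C ↘ Spec (CommRingCat.of k))
    {M : C.Modules} (hM : PicF.IsInvertible M) (q : (Scheme.Modules.pullback f).obj E ⟶ M) (hq : Epi q) :
    NumR.IsNef k C M := by
  intro Y i hi hY hdim
  haveI := hY
  letI : Y.Over (Spec (CommRingCat.of k)) := ⟨i ≫ C ↘ Spec (CommRingCat.of k)⟩
  haveI : IsProper (Y ↘ Spec (CommRingCat.of k)) := inferInstanceAs (IsProper (i ≫ C ↘ Spec (CommRingCat.of k)))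
  obtain ⟨N, ν, hN, hνp, hNd, hreg, hgen⟩ := exists_normal_curve k (C := Y) hdim
  haveI := hN
  letI : N.Over (Spec (CommRingCat.of k)) := ⟨ν ≫ Y ↘ Spec (CommRingCat.of k)⟩
  haveI : IsProper (N ↘ Spec (CommRingCat.of k)) := hνp
  have hMY : PicF.IsInvertible ((Scheme.Modules.pullback i).obj M) := Ample.isInvertible_pullback i hM
  show 0 ≤ Pic13.curveDeg k (Y ↘ Spec (CommRingCat.of k)) ((Scheme.Modules.pullback i).obj M)
  rw [curveDeg_eq_euler k hdim.le hMY]
  have key : 0 ≤ Curv2.deg k Y ((Scheme.Modules.pullback i).obj M) 1 := by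
    refine deg_nonneg_of_pullback k hdim hMY hNd ν rfl hgen ?_
    let q' : (Scheme.Modules.pullback (ν ≫ i ≫ f)).obj E ⟶
        (Scheme.Modules.pullback ν).obj ((Scheme.Modules.pullback i).obj M) :=
      ((Scheme.Modules.pullbackComp ν (i ≫ f)).app E).inv ≫
        (Scheme.Modules.pullback ν).map (((Scheme.Modules.pullbackComp i f).app E).inv ≫ (Scheme.Modules.pullback i).map q)
    haveI := hq
    refine hE N hNd hreg (ν ≫ i ≫ f) ?_ _ (Ample.isInvertible_pullback ν hMY) q' inferInstance
    simp only [Category.assoc, hf]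
    rfl
  simp only [Curv2.deg, Nat.cast_one, one_mul] at key
  exact key

end GrothLib.Kleiman
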