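import Groth.Agent.Lib.Kleiman.Proper

/-!
# Nefness descends along proper surjections
-/

universe u

set_option backward.isDefEq.respectTransparency false
set_option linter.all false

open CategoryTheory CategoryTheory.Limits AlgebraicGeometry TopologicalSpace
open GrothLib.Snapper (IsTop phi mixed ptMod)

noncomputable section

namespace GrothLib.Kleiman

variable {X : Scheme.{u}} (k : Type u) [Field k] [X.Over (Spec (CommRingCat.of k))]
  [IsProper (X ↘ Spec (CommRingCat.of k))]

/-- The Euler characteristic form of nefness. -/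
theorem euler_of_isNef {L : X.Modules} (hL : PicF.IsInvertible L) (hn : NumR.IsNef k X L)
    (C : X.IdealSheafData) (hC : IsIntegral C.subscheme) (hd : topologicalKrullDim (C.support : Set X) = 1) :
    0 ≤ Curv2.euler k X (CohB1.tensorMod (ClSub.quotMod C) L) - Curv2.euler k X (ClSub.quotMod C) := by
  haveI := hC
  let Y := C.subscheme
  letI : Y.Over (Spec (CommRingCat.of k)) := ⟨C.subschemeι ≫ X ↘ Spec (CommRingCat.of k)⟩
  haveI : IsProper (Y ↘ Spec (CommRingCat.of k)) :=
    inferInstanceAs (IsProper (C.subschemeι ≫ X ↘ Spec (CommRingCat.of k)))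
  have hdim : topologicalKrullDim Y = 1 := by
    refine (IsHomeomorph.topologicalKrullDim_eq _
      C.subschemeι.isClosedEmbedding.isEmbedding.toHomeomorph.isHomeomorph).trans ?_
    rw [Scheme.IdealSheafData.range_subschemeι]
    exact hd
  have h : 0 ≤ Pic13.curveDeg k (Y ↘ Spec (CommRingCat.of k)) ((Scheme.Modules.pullback C.subschemeι).obj L) :=
    hn Y C.subschemeι hC hdim
  rw [curveDeg_eq_euler k hdim.le (Ample.isInvertible_pullback _ hL),
    euler_pullback_eq_quotMod k C.subschemeι rfl hL, Scheme.IdealSheafData.ker_subschemeι] at h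
  have h2 : Curv2.euler k Y (Coh.structureModule Y) = Curv2.euler k X (ClSub.quotMod C) := by
    rw [← Euler.euler_of_iso k (Ample.nonempty_pullback_structureModule C.subschemeι).some,
      euler_pullback_eq_quotMod k C.subschemeι rfl Euler.isInvertible_structure,
      Scheme.IdealSheafData.ker_subschemeι]
    exact euler_tensor_structure k _
  rw [h2] at h
  exact h

/-- The degree of a pullback to a curve lying over a curve. -/
theorem curveDeg_pullback_eq {L : X.Modules} (hL : PicF.IsInvertible L) {Y : Scheme.{u}} [IsIntegral Y]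
    [Y.Over (Spec (CommRingCat.of k))] [IsProper (Y ↘ Spec (CommRingCat.of k))] (g : Y ⟶ X)
    (hg : g ≫ X ↘ Spec (CommRingCat.of k) = Y ↘ Spec (CommRingCat.of k))
    (hdim : topologicalKrullDim Y = ((1 : ℕ) : WithBot ℕ∞)) (hw : IsTop 1 (g (genericPoint Y))) :
    0 < g.residueDegree (genericPoint Y) ∧
      (Pic13.curveDeg k (Y ↘ Spec (CommRingCat.of k)) ((Scheme.Modules.pullback g).obj L) : ℚ) =
        (g.residueDegree (genericPoint Y) : ℚ) * mixed 1 (phi k 1 (fun _ => L) (ptMod (g (genericPoint Y)))) := by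
  constructor
  · have hfin := (Snapper.isTop_iff_finite (k := k) hg hdim).1 hw
    letI := (g.residueFieldMap (genericPoint Y)).hom.toAlgebra
    haveI : Module.Finite (X.residueField (g (genericPoint Y))) (Y.residueField (genericPoint Y)) := hfin
    exact Module.finrank_pos (R := X.residueField (g (genericPoint Y))) (M := Y.residueField (genericPoint Y))
  · have h1 := Snapper.mixed_eq_zero (Snapper.phi_pullback_sub_mem (k := k) (g := g) hg hdim (r := 1)
      (L := fun _ => L) (fun _ => hL))
    rw [map_sub, map_nsmul, sub_eq_zero, mixed_one_eq_curveDeg k (isInv_pullback g hL) (le_of_eq hdim),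
      nsmul_eq_mul] at h1
    exact h1

/-- Nefness descends along proper surjections. -/
theorem isNef_of_surjective {X' : Scheme.{u}} [X'.Over (Spec (CommRingCat.of k))]
    [IsProper (X' ↘ Spec (CommRingCat.of k))] (f : X' ⟶ X)
    (hf : f ≫ X ↘ Spec (CommRingCat.of k) = X' ↘ Spec (CommRingCat.of k)) [Surjective f]
    {L : X.Modules} (hL : PicF.IsInvertible L)
    (hn : NumR.IsNef k X' ((Scheme.Modules.pullback f).obj L)) : NumR.IsNef k X L := by
  intro Y i hi hY hdim
  haveI := hY
  letI : Y.Over (Spec (CommRingCat.of k)) := ⟨i ≫ X ↘ Spec (CommRingCat.of k)⟩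
  haveI : IsProper (Y ↘ Spec (CommRingCat.of k)) := inferInstanceAs (IsProper (i ≫ X ↘ Spec (CommRingCat.of k)))
  have hdim' : topologicalKrullDim Y = ((1 : ℕ) : WithBot ℕ∞) := hdim
  let w := i (genericPoint Y)
  have hw : IsTop 1 w := by
    show topologicalKrullDim (closure ({w} : Set X)) = _
    rw [QCoh.closure_singleton_eq_range i]
    exact ((IsHomeomorph.topologicalKrullDim_eq _
      i.isClosedEmbedding.isEmbedding.toHomeomorph.isHomeomorph).symm).trans hdim'
  haveI : IsProper (f ≫ X ↘ Spec (CommRingCat.of k)) := by rw [hf]; infer_instance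
  haveI : IsProper f := IsProper.of_comp f (X ↘ Spec (CommRingCat.of k))
  haveI : CompactSpace (f.fiber w) := QuasiCompact.compactSpace_of_compactSpace (f.fiberToSpecResidueField w)
  haveI : Nonempty (f.fiber w) := by
    obtain ⟨z, hz⟩ := (inferInstance : Surjective f).surj w
    exact ⟨(f.fiberHomeo w).symm ⟨z, hz⟩⟩
  obtain ⟨p, -, hp⟩ := (isClosed_univ : IsClosed (Set.univ : Set (f.fiber w))).exists_closed_singleton
    Set.univ_nonempty
  let z := f.fiberι w p
  have hz : f z = w := by
    have : z ∈ Set.range (f.fiberι w) := ⟨p, rfl⟩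
    rw [Scheme.Hom.range_fiberι] at this
    exact this
  have hzd : IsTop 1 z := by
    have h := AffDom.ptDim_fiberι f (X ↘ Spec (CommRingCat.of k)) w p
    rw [ptDim_eq_zero_of_isClosed hp, add_zero] at h
    show AffDom.ptDim (f.fiberι w p) = _
    rw [h]
    exact hw
  let I := Scheme.IdealSheafData.vanishingIdeal (⟨closure ({z} : Set X'), isClosed_closure⟩ : Closeds X')
  haveI hI : IsIntegral I.subscheme := Snapper.isIntegral_pt z
  letI : I.subscheme.Over (Spec (CommRingCat.of k)) := ⟨I.subschemeι ≫ X' ↘ Spec (CommRingCat.of k)⟩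
  haveI : IsProper (I.subscheme ↘ Spec (CommRingCat.of k)) :=
    inferInstanceAs (IsProper (I.subschemeι ≫ X' ↘ Spec (CommRingCat.of k)))
  have hgen : I.subschemeι (genericPoint I.subscheme) = z := by
    have h := (genericPoint_spec I.subscheme).image I.subschemeι.continuous
    rw [Set.image_univ, Snapper.range_pt, closure_closure] at h
    exact h.eq isGenericPoint_closure
  have hId : topologicalKrullDim I.subscheme = ((1 : ℕ) : WithBot ℕ∞) := by
    refine (IsHomeomorph.topologicalKrullDim_eq _
      I.subschemeι.isClosedEmbedding.isEmbedding.toHomeomorph.isHomeomorph).trans ?_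
    rw [Snapper.range_pt]
    exact hzd
  let g := I.subschemeι ≫ f
  have hg : g ≫ X ↘ Spec (CommRingCat.of k) = I.subscheme ↘ Spec (CommRingCat.of k) := by
    rw [Category.assoc, hf]
    rfl
  have hgw : g (genericPoint I.subscheme) = w := by rw [Scheme.Hom.comp_apply, hgen, hz]
  obtain ⟨hpos', e'⟩ := curveDeg_pullback_eq k hL g hg hId (hgw ▸ hw)
  obtain ⟨hpos, e⟩ := curveDeg_pullback_eq k hL i rfl hdim' hw
  have hd' : 0 ≤ Pic13.curveDeg k (I.subscheme ↘ Spec (CommRingCat.of k))
      ((Scheme.Modules.pullback g).obj L) := by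
    have h := hn I.subscheme I.subschemeι hI hId
    have hiso : (Scheme.Modules.pullback I.subschemeι).obj ((Scheme.Modules.pullback f).obj L) ≅
        (Scheme.Modules.pullback g).obj L := (Scheme.Modules.pullbackComp I.subschemeι f).app L
    rw [curveDeg_eq_euler k hId.le (isInv_pullback g hL), ← Euler.euler_of_iso k hiso,
      ← curveDeg_eq_euler k hId.le (isInv_pullback _ (isInv_pullback f hL))]
    exact h
  have hd'' : (0 : ℚ) ≤ (g.residueDegree (genericPoint I.subscheme) : ℚ) *
      mixed 1 (phi k 1 (fun _ => L) (ptMod (g (genericPoint I.subscheme)))) := by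
    rw [← e']
    exact_mod_cast hd'
  rw [hgw] at hd''
  have hm : (0 : ℚ) ≤ mixed 1 (phi k 1 (fun _ => L) (ptMod w)) :=
    nonneg_of_mul_nonneg_right (by rwa [mul_comm] at hd'') (by exact_mod_cast hpos')
  show 0 ≤ Pic13.curveDeg k (Y ↘ Spec (CommRingCat.of k)) ((Scheme.Modules.pullback i).obj L)
  suffices h : (0 : ℚ) ≤ (Pic13.curveDeg k (Y ↘ Spec (CommRingCat.of k)) ((Scheme.Modules.pullback i).obj L) : ℚ) by
    exact_mod_cast h
  rw [e]
  exact mul_nonneg (Nat.cast_nonneg _) hm

end GrothLib.Kleiman
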