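import Groth.Agent.Lib.Snapper.Positive
import Mathlib.Algebra.Group.ForwardDiff
import Mathlib.Topology.Order.IntermediateValue
import Mathlib.Topology.Algebra.Ring.Real
import Mathlib.Data.Rat.Floor

/-!
# Top coefficients of functions of two variables; the positivity argument of Kleiman
-/

set_option autoImplicit false
set_option linter.all false

noncomputable section

namespace GrothLib.Kleiman

open GrothLib.Snapper (polyLT mono mono_mem)

/-- The `i`-th alternating sum. -/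
def alt (i : ℕ) (g : ℕ → ℚ) : ℚ :=
  ∑ s ∈ Finset.range (i + 1), ((-1 : ℤ) ^ (i - s) * i.choose s : ℤ) * g s

theorem alt_pow_eq (i j : ℕ) :
    alt i (fun s => (s : ℚ) ^ j) = ((fwdDiff (1 : ℚ))^[i] fun r : ℚ => r ^ j) 0 := by
  rw [fwdDiff_iter_eq_sum_shift]
  simp [alt]

theorem alt_pow_of_lt {i j : ℕ} (h : j < i) : alt i (fun s => (s : ℚ) ^ j) = 0 := by
  rw [alt_pow_eq, fwdDiff_iter_pow_eq_zero_of_lt h]
  rfl

theorem alt_pow_self (i : ℕ) : alt i (fun s => (s : ℚ) ^ i) = (i.factorial : ℚ) := by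
  rw [alt_pow_eq, fwdDiff_iter_eq_factorial]
  rfl

/-- The coefficient of `a^i b^{d-i}` of a function of degree `≤ d` of two variables `(a, b)`. -/
def tc (d i : ℕ) : ((Fin 2 → ℕ) → ℚ) →ₗ[ℚ] ℚ where
  toFun f := alt i (fun s => alt (d - i) fun t => f ![s, t]) / (i.factorial * (d - i).factorial)
  map_add' f g := by simp only [alt, Pi.add_apply, mul_add, Finset.sum_add_distrib, add_div]
  map_smul' c f := by
    have h : ∀ (i : ℕ) (g : ℕ → ℚ), alt i (fun s => c * g s) = c * alt i g := fun i g => by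
      simp only [alt, Finset.mul_sum]
      exact Finset.sum_congr rfl fun s _ => by ring
    simp only [Pi.smul_apply, smul_eq_mul, RingHom.id_apply, h, mul_div_assoc]

theorem mono_two (a b : ℕ) (n : Fin 2 → ℕ) : mono ![a, b] n = (n 0 : ℚ) ^ a * (n 1 : ℚ) ^ b := by
  simp [mono, Fin.prod_univ_two]

theorem eq_two (m : Fin 2 → ℕ) : m = ![m 0, m 1] := by
  funext i; fin_cases i <;> rfl

theorem tc_mono {d i a b : ℕ} (hi : i ≤ d) (hab : a + b ≤ d) :
    tc d i (mono ![a, b]) = if a = i ∧ b = d - i then 1 else 0 := by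
  have hsep : alt i (fun s => alt (d - i) fun t => mono ![a, b] ![s, t]) =
      alt i (fun s => (s : ℚ) ^ a) * alt (d - i) (fun t => (t : ℚ) ^ b) := by
    simp only [alt, mono_two, Matrix.cons_val_zero, Matrix.cons_val_one, Matrix.cons_val_fin_one]
    rw [Finset.sum_mul_sum]
    refine Finset.sum_congr rfl fun s _ => ?_
    rw [Finset.mul_sum]
    exact Finset.sum_congr rfl fun t _ => by ring
  show alt i (fun s => alt (d - i) fun t => mono ![a, b] ![s, t]) / _ = _
  rw [hsep]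
  by_cases ha : a < i
  · rw [alt_pow_of_lt ha, if_neg (by omega), zero_mul, zero_div]
  by_cases hb : b < d - i
  · rw [alt_pow_of_lt hb, if_neg (by omega), mul_zero, zero_div]
  obtain rfl : a = i := by omega
  obtain rfl : b = d - a := by omega
  rw [if_pos ⟨rfl, rfl⟩, alt_pow_self, alt_pow_self,
    div_self (mul_ne_zero (Nat.cast_ne_zero.2 a.factorial_ne_zero) (Nat.cast_ne_zero.2 (d - a).factorial_ne_zero))]

theorem tc_eq_zero {d i : ℕ} (hi : i ≤ d) {f : (Fin 2 → ℕ) → ℚ} (hf : f ∈ polyLT 2 d) : tc d i f = 0 := by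
  have h : polyLT 2 d ≤ LinearMap.ker (tc d i) := Submodule.span_le.2 fun g hg => by
    obtain ⟨m, hm, rfl⟩ := hg
    show tc d i (mono m) = 0
    have hm' : m 0 + m 1 < d := by simpa [Fin.sum_univ_two] using hm
    rw [eq_two m, tc_mono hi (by omega), if_neg (by omega)]
  exact h hf

/-- The homogeneous part of degree `d`. -/
def topPart (d : ℕ) (c : ℕ → ℚ) : (Fin 2 → ℕ) → ℚ :=
  ∑ i ∈ Finset.range (d + 1), c i • mono ![i, d - i]

theorem sub_topPart_mem {d : ℕ} {f : (Fin 2 → ℕ) → ℚ} (hf : f ∈ polyLT 2 (d + 1)) :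
    f - topPart d (fun i => tc d i f) ∈ polyLT 2 d := by
  induction hf using Submodule.span_induction with
  | mem g hg =>
    obtain ⟨m, hm, rfl⟩ := hg
    have hm' : m 0 + m 1 ≤ d := by simpa [Fin.sum_univ_two, Nat.lt_succ_iff] using hm
    rw [eq_two m]
    by_cases h : m 0 + m 1 = d
    · have e : topPart d (fun i => tc d i (mono ![m 0, m 1])) = mono ![m 0, m 1] := by
        rw [topPart, Finset.sum_eq_single (m 0)]
        · rw [tc_mono (by omega) hm', if_pos ⟨rfl, by omega⟩, one_smul, show d - m 0 = m 1 by omega]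
        · intro j hj hne
          rw [tc_mono (by simpa [Nat.lt_succ_iff] using hj) hm', if_neg (fun h' => hne h'.1.symm), zero_smul]
        · intro h'
          exact absurd (Finset.mem_range.2 (by omega)) h'
      rw [e, sub_self]
      exact Submodule.zero_mem _
    · have e : topPart d (fun i => tc d i (mono ![m 0, m 1])) = 0 := Finset.sum_eq_zero fun j hj => by
        dsimp only
        rw [tc_mono (by simpa [Nat.lt_succ_iff] using hj) hm', if_neg (by omega), zero_smul]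
      rw [e, sub_zero]
      exact mono_mem (by simp [Fin.sum_univ_two]; omega)
  | zero => simp [topPart]
  | add f g _ _ hf hg =>
    have e : topPart d (fun i => tc d i (f + g)) = topPart d (fun i => tc d i f) + topPart d (fun i => tc d i g) := by
      simp only [topPart, map_add, add_smul, Finset.sum_add_distrib]
    rw [e, add_sub_add_comm]
    exact Submodule.add_mem _ hf hg
  | smul a f _ hf =>
    have e : topPart d (fun i => tc d i (a • f)) = a • topPart d (fun i => tc d i f) := by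
      simp only [topPart, map_smul, smul_eq_mul, mul_smul, Finset.smul_sum]
    rw [e, ← smul_sub]
    exact Submodule.smul_mem _ _ hf

/-- Two linear functionals agree on functions of degree `≤ d` when they agree on monomials. -/
theorem eq_of_mono {d : ℕ} (Φ Ψ : ((Fin 2 → ℕ) → ℚ) →ₗ[ℚ] ℚ)
    (h : ∀ a b, a + b ≤ d → Φ (mono ![a, b]) = Ψ (mono ![a, b])) {f : (Fin 2 → ℕ) → ℚ}
    (hf : f ∈ polyLT 2 (d + 1)) : Φ f = Ψ f := by
  refine LinearMap.eqOn_span (R := ℚ) (f := Φ) (g := Ψ) ?_ hf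
  rintro _ ⟨m, hm, rfl⟩
  rw [eq_two m]
  exact h _ _ (by simpa [Fin.sum_univ_two, Nat.lt_succ_iff] using hm)

/-- The difference in the second variable. -/
theorem tc_shift {e i m : ℕ} (hi : i ≤ e) {f : (Fin 2 → ℕ) → ℚ} (hf : f ∈ polyLT 2 (e + 1 + 1)) :
    tc e i (fun n => f ![n 0, n 1 + m] - f n) = (m : ℚ) * ((e + 1 - i : ℕ) : ℚ) * tc (e + 1) i f := by
  let Φ : ((Fin 2 → ℕ) → ℚ) →ₗ[ℚ] ℚ := (tc e i).comp
    (LinearMap.funLeft ℚ ℚ (fun n : Fin 2 → ℕ => ![n 0, n 1 + m]) - LinearMap.id)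
  let Ψ : ((Fin 2 → ℕ) → ℚ) →ₗ[ℚ] ℚ := ((m : ℚ) * ((e + 1 - i : ℕ) : ℚ)) • tc (e + 1) i
  show Φ f = Ψ f
  refine eq_of_mono Φ Ψ (fun a b hab => ?_) hf
  show tc e i (fun n => mono ![a, b] ![n 0, n 1 + m] - mono ![a, b] n) =
    ((m : ℚ) * ((e + 1 - i : ℕ) : ℚ)) * tc (e + 1) i (mono ![a, b])
  have hexp : (fun n : Fin 2 → ℕ => mono ![a, b] ![n 0, n 1 + m] - mono ![a, b] n) =
      ∑ j ∈ Finset.range b, ((b.choose j : ℚ) * (m : ℚ) ^ (b - j)) • mono ![a, j] := by
    funext n
    simp only [Finset.sum_apply, Pi.smul_apply, smul_eq_mul, mono_two, Matrix.cons_val_zero,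
      Matrix.cons_val_one, Matrix.cons_val_fin_one, Nat.cast_add]
    rw [add_pow, Finset.sum_range_succ, Nat.sub_self, pow_zero, Nat.choose_self, Nat.cast_one, mul_one, mul_one,
      mul_add, add_sub_cancel_right, Finset.mul_sum]
    exact Finset.sum_congr rfl fun j _ => by ring
  rw [hexp, map_sum, tc_mono (d := e + 1) (by omega) hab]
  by_cases hc : a = i ∧ b = e + 1 - i
  · obtain ⟨rfl, rfl⟩ := hc
    rw [if_pos ⟨rfl, rfl⟩, Finset.sum_eq_single (e - a)]
    · rw [map_smul, tc_mono hi (by omega), if_pos ⟨rfl, rfl⟩, smul_eq_mul, mul_one, mul_one,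
        show e + 1 - a = e - a + 1 by omega, Nat.choose_succ_self_right, Nat.add_sub_cancel_left, pow_one]
      ring
    · intro j hj hne
      rw [map_smul, tc_mono hi (by have := Finset.mem_range.1 hj; omega), if_neg (fun h => hne h.2), smul_zero]
    · intro h
      exact absurd (Finset.mem_range.2 (by omega)) h
  · rw [if_neg hc, mul_zero]
    refine Finset.sum_eq_zero fun j hj => ?_
    have := Finset.mem_range.1 hj
    rw [map_smul, tc_mono hi (by omega), if_neg (by omega), smul_zero]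

/-- The restriction to a line through the origin. -/
theorem line_mem {d : ℕ} (p q : ℕ) {f : (Fin 2 → ℕ) → ℚ} (hf : f ∈ polyLT 2 (d + 1)) :
    (fun n : Fin 1 → ℕ => f ![p * n 0, q * n 0]) -
        (∑ i ∈ Finset.range (d + 1), tc d i f * (p : ℚ) ^ i * (q : ℚ) ^ (d - i)) • mono (fun _ : Fin 1 => d) ∈
      polyLT 1 d := by
  let σ : (Fin 1 → ℕ) → (Fin 2 → ℕ) := fun n => ![p * n 0, q * n 0]
  have hmono : ∀ a b : ℕ, mono ![a, b] ∘ σ = ((p : ℚ) ^ a * (q : ℚ) ^ b) • mono (fun _ : Fin 1 => a + b) := by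
    intro a b
    funext n
    simp [σ, mono, Fin.prod_univ_two, mul_pow, pow_add]
    ring
  have hlow : (f - topPart d (fun i => tc d i f)) ∘ σ ∈ polyLT 1 d :=
    Snapper.comp_mem σ (fun m hm => by
      rw [eq_two m, hmono]
      exact Submodule.smul_mem _ _ (mono_mem (by simpa [Fin.sum_univ_two] using hm))) (sub_topPart_mem hf)
  convert hlow using 1
  funext n
  simp only [Pi.sub_apply, Pi.smul_apply, Function.comp_apply, topPart, Finset.sum_apply, smul_eq_mul,
    Finset.sum_mul]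
  refine congrArg₂ (· - ·) rfl (Finset.sum_congr rfl fun i hi => ?_)
  have h := congrFun (hmono i (d - i)) n
  simp only [Function.comp_apply, Pi.smul_apply, smul_eq_mul] at h
  rw [h, show i + (d - i) = d by have := Finset.mem_range.1 hi; omega]
  ring

/-- The substitution `(a, b) ↦ (a + q b, p b)`. -/
theorem tc_one_subst {d : ℕ} (hd : 1 ≤ d) (p q : ℕ) {f : (Fin 2 → ℕ) → ℚ} (hf : f ∈ polyLT 2 (d + 1)) :
    tc d 1 (fun n => f ![n 0 + q * n 1, p * n 1]) =
      ∑ i ∈ Finset.range (d + 1), tc d i f * (i : ℚ) * (q : ℚ) ^ (i - 1) * (p : ℚ) ^ (d - i) := by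
  let Φ : ((Fin 2 → ℕ) → ℚ) →ₗ[ℚ] ℚ := (tc d 1).comp
    (LinearMap.funLeft ℚ ℚ (fun n : Fin 2 → ℕ => ![n 0 + q * n 1, p * n 1]))
  let Ψ : ((Fin 2 → ℕ) → ℚ) →ₗ[ℚ] ℚ :=
    ∑ i ∈ Finset.range (d + 1), ((i : ℚ) * (q : ℚ) ^ (i - 1) * (p : ℚ) ^ (d - i)) • tc d i
  have hΨ : Ψ f = ∑ i ∈ Finset.range (d + 1), tc d i f * (i : ℚ) * (q : ℚ) ^ (i - 1) * (p : ℚ) ^ (d - i) := by
    simp only [Ψ, LinearMap.sum_apply, LinearMap.smul_apply, smul_eq_mul]
    exact Finset.sum_congr rfl fun i _ => by ring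
  rw [← hΨ]
  show Φ f = Ψ f
  refine eq_of_mono Φ Ψ (fun a b hab => ?_) hf
  show tc d 1 (fun n => mono ![a, b] ![n 0 + q * n 1, p * n 1]) = Ψ (mono ![a, b])
  have hexp : (fun n : Fin 2 → ℕ => mono ![a, b] ![n 0 + q * n 1, p * n 1]) =
      ∑ j ∈ Finset.range (a + 1), ((a.choose j : ℚ) * (q : ℚ) ^ (a - j) * (p : ℚ) ^ b) • mono ![j, a - j + b] := by
    funext n
    simp only [Finset.sum_apply, Pi.smul_apply, smul_eq_mul, mono_two, Matrix.cons_val_zero,
      Matrix.cons_val_one, Matrix.cons_val_fin_one, Nat.cast_add, Nat.cast_mul, add_pow, Finset.sum_mul, mul_pow]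
    exact Finset.sum_congr rfl fun j _ => by rw [pow_add]; ring
  rw [hexp, map_sum]
  simp only [Ψ, LinearMap.sum_apply, LinearMap.smul_apply, smul_eq_mul]
  by_cases hc : a + b = d
  · rw [Finset.sum_eq_single (s := Finset.range (d + 1)) a]
    · rw [tc_mono (by omega) hab, if_pos ⟨rfl, by omega⟩, mul_one, show d - a = b by omega]
      rcases Nat.eq_zero_or_pos a with rfl | ha
      · rw [Finset.sum_eq_zero]
        · simp
        · intro j hj
          rw [map_smul, tc_mono hd (by have := Finset.mem_range.1 hj; omega),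
            if_neg (by have := Finset.mem_range.1 hj; omega), smul_zero]
      · rw [Finset.sum_eq_single 1]
        · rw [map_smul, tc_mono hd (by omega), if_pos ⟨rfl, by omega⟩, Nat.choose_one_right, smul_eq_mul, mul_one]
        · intro j hj hne
          rw [map_smul, tc_mono hd (by have := Finset.mem_range.1 hj; omega), if_neg (fun h => hne h.1), smul_zero]
        · intro h
          exact absurd (Finset.mem_range.2 (by omega)) h
    · intro i hi hne
      rw [tc_mono (by simpa [Nat.lt_succ_iff] using hi) hab, if_neg (fun h => hne h.1.symm), mul_zero]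
    · intro h
      exact absurd (Finset.mem_range.2 (by omega)) h
  · refine (Finset.sum_eq_zero fun j hj => ?_).trans (Finset.sum_eq_zero fun i hi => ?_).symm
    · have := Finset.mem_range.1 hj
      rw [map_smul, tc_mono hd (by omega), if_neg (by omega), smul_zero]
    · have := Finset.mem_range.1 hi
      rw [tc_mono (by omega) hab, if_neg (by omega), mul_zero]

/-- The last coefficient is non-negative. -/
theorem nonneg_last {d : ℕ} (hd : 1 ≤ d) (c : ℕ → ℚ) (hc : ∀ i < d, 0 ≤ c i) (hc0 : 0 < c 0)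
    (h : ∀ p q : ℕ, 0 < p → 0 < q → 0 < ∑ i ∈ Finset.range (d + 1), c i * (q : ℚ) ^ i * (p : ℚ) ^ (d - i) →
      0 ≤ ∑ i ∈ Finset.range (d + 1), c i * (i : ℚ) * (q : ℚ) ^ (i - 1) * (p : ℚ) ^ (d - i)) :
    0 ≤ c d := by
  by_contra hcd
  push Not at hcd
  let P : ℝ → ℝ := fun t => ∑ i ∈ Finset.range (d + 1), (c i : ℝ) * t ^ (d - i)
  have hP : Continuous P := by fun_prop
  have hsplit : ∀ t, P t = (∑ i ∈ Finset.range d, (c i : ℝ) * t ^ (d - i)) + (c d : ℝ) := fun t => by
    simp [P, Finset.sum_range_succ]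
  have hc' : ∀ i < d, (0 : ℝ) ≤ (c i : ℝ) := fun i hi => by exact_mod_cast hc i hi
  have hc0' : (0 : ℝ) < (c 0 : ℝ) := by exact_mod_cast hc0
  have hcd' : (c d : ℝ) < 0 := by exact_mod_cast hcd
  have hP0 : P 0 < 0 := by
    rw [hsplit, Finset.sum_eq_zero fun i hi => by
      have := Finset.mem_range.1 hi
      rw [zero_pow (by omega), mul_zero], zero_add]
    exact hcd'
  -- strict monotonicity
  have hmono : ∀ s t : ℝ, 0 ≤ s → s < t → P s < P t := by
    intro s t hs hst
    rw [hsplit, hsplit, add_lt_add_iff_right]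
    refine Finset.sum_lt_sum (fun i hi => mul_le_mul_of_nonneg_left (pow_le_pow_left₀ hs hst.le _)
      (hc' i (Finset.mem_range.1 hi))) ⟨0, Finset.mem_range.2 (by omega), ?_⟩
    exact mul_lt_mul_of_pos_left (pow_lt_pow_left₀ hst hs (by omega)) hc0'
  let M : ℝ := 1 + -(c d : ℝ) / (c 0 : ℝ)
  have hM1 : 1 ≤ M := le_add_of_nonneg_right (div_nonneg (neg_nonneg.2 hcd'.le) hc0'.le)
  have hPM : 0 < P M := by
    rw [hsplit]
    have h1 : (c 0 : ℝ) * M ^ d ≤ ∑ i ∈ Finset.range d, (c i : ℝ) * M ^ (d - i) :=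
      (Finset.single_le_sum (f := fun i => (c i : ℝ) * M ^ (d - i)) (fun i hi => mul_nonneg
        (hc' i (Finset.mem_range.1 hi)) (pow_nonneg (by linarith) _)) (Finset.mem_range.2 (by omega : 0 < d)))
    have h2 : (c 0 : ℝ) * M ≤ (c 0 : ℝ) * M ^ d := mul_le_mul_of_nonneg_left (le_self_pow₀ hM1 (by omega)) hc0'.le
    have h3 : (c 0 : ℝ) * M = (c 0 : ℝ) - (c d : ℝ) := by
      simp only [M]
      field_simp
      ring
    linarith
  obtain ⟨t₀, ⟨ht₀, -⟩, hPt₀⟩ := intermediate_value_Ioo (le_trans zero_le_one hM1) hP.continuousOn ⟨hP0, hPM⟩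
  -- the lower bound right of `t₀`
  have hlow : ∀ r : ℚ, t₀ < (r : ℝ) → (c 0 : ℝ) * t₀ ^ d ≤ P r := by
    intro r hr
    have hr0 : (0 : ℚ) < r := by exact_mod_cast lt_trans ht₀ hr
    let p : ℕ := r.num.toNat
    let q : ℕ := r.den
    have hq : 0 < q := r.den_pos
    have hnum : 0 < r.num := Rat.num_pos.2 hr0
    have hp : 0 < p := by simp only [p]; omega
    have hpq : (r : ℚ) * q = p := by
      rw [Rat.mul_den_eq_num]
      simp only [p]
      exact_mod_cast (Int.toNat_of_nonneg hnum.le).symm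
    have hval : ∀ i ≤ d, (q : ℝ) ^ d * ((c i : ℝ) * (r : ℝ) ^ (d - i)) =
        ((c i * (q : ℚ) ^ i * (p : ℚ) ^ (d - i) : ℚ) : ℝ) := by
      intro i hi
      rw [← hpq]
      push_cast
      rw [mul_pow, show (q : ℝ) ^ d = (q : ℝ) ^ i * (q : ℝ) ^ (d - i) by rw [← pow_add, Nat.add_sub_cancel' hi]]
      ring
    let S : ℚ := ∑ i ∈ Finset.range (d + 1), c i * (q : ℚ) ^ i * (p : ℚ) ^ (d - i)
    have hS : (q : ℝ) ^ d * P r = (S : ℝ) := by
      simp only [P, S, Rat.cast_sum, Finset.mul_sum]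
      exact Finset.sum_congr rfl fun i hi => hval i (by simpa [Nat.lt_succ_iff] using hi)
    have hqd : (0 : ℝ) < (q : ℝ) ^ d := pow_pos (by exact_mod_cast hq) _
    have hSpos : 0 < S := by
      have : (0 : ℝ) < (S : ℝ) := hS ▸ mul_pos hqd (hPt₀ ▸ hmono t₀ r ht₀.le hr)
      exact_mod_cast this
    have hE := h p q hp hq hSpos
    have hkey : (d : ℚ) * (c 0 * (p : ℚ) ^ d) ≤ (d : ℚ) * S := by
      have h2 : ∀ i ∈ Finset.range (d + 1), c i * (i : ℚ) * (q : ℚ) ^ i * (p : ℚ) ^ (d - i) =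
          (q : ℚ) * (c i * (i : ℚ) * (q : ℚ) ^ (i - 1) * (p : ℚ) ^ (d - i)) := by
        intro i _
        rcases Nat.eq_zero_or_pos i with rfl | hi
        · simp
        · conv_lhs => rw [show i = i - 1 + 1 by omega, pow_succ]
          rw [show i - 1 + 1 = i by omega]
          ring
      have h3 : (0 : ℚ) ≤ ∑ i ∈ Finset.range (d + 1), c i * (i : ℚ) * (q : ℚ) ^ i * (p : ℚ) ^ (d - i) := by
        rw [Finset.sum_congr rfl h2, ← Finset.mul_sum]
        exact mul_nonneg (Nat.cast_nonneg _) hE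
      have h4 : (d : ℚ) * (c 0 * (p : ℚ) ^ d) ≤
          ∑ i ∈ Finset.range (d + 1), ((d - i : ℕ) : ℚ) * (c i * (q : ℚ) ^ i * (p : ℚ) ^ (d - i)) := by
        refine le_trans (le_of_eq ?_) (Finset.single_le_sum (fun i hi => ?_)
          (Finset.mem_range.2 (show 0 < d + 1 by omega)))
        · simp
        · rcases Nat.lt_or_ge i d with hid | hid
          · exact mul_nonneg (Nat.cast_nonneg _) (mul_nonneg (mul_nonneg (hc i hid) (pow_nonneg (Nat.cast_nonneg _) _))
              (pow_nonneg (Nat.cast_nonneg _) _))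
          · simp [Nat.sub_eq_zero_of_le hid]
      have h5 : (d : ℚ) * S = (∑ i ∈ Finset.range (d + 1), c i * (i : ℚ) * (q : ℚ) ^ i * (p : ℚ) ^ (d - i)) +
          ∑ i ∈ Finset.range (d + 1), ((d - i : ℕ) : ℚ) * (c i * (q : ℚ) ^ i * (p : ℚ) ^ (d - i)) := by
        rw [← Finset.sum_add_distrib, Finset.mul_sum]
        refine Finset.sum_congr rfl fun i hi => ?_
        rw [Nat.cast_sub (by simpa [Nat.lt_succ_iff] using hi)]
        ring
      linarith
    have hkey' : c 0 * (p : ℚ) ^ d ≤ S := le_of_mul_le_mul_left hkey (by exact_mod_cast (show 0 < d by omega))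
    have h6 : (q : ℝ) ^ d * ((c 0 : ℝ) * (r : ℝ) ^ d) ≤ (q : ℝ) ^ d * P r := by
      have h7 := hval 0 (Nat.zero_le d)
      simp only [Nat.sub_zero, pow_zero, mul_one] at h7
      rw [h7, hS]
      exact_mod_cast hkey'
    exact le_trans (mul_le_mul_of_nonneg_left (pow_le_pow_left₀ ht₀.le hr.le _) hc0'.le)
      (le_of_mul_le_mul_left h6 hqd)
  -- continuity at `t₀`
  have hpos : 0 < (c 0 : ℝ) * t₀ ^ d := mul_pos hc0' (pow_pos ht₀ _)
  obtain ⟨δ, hδ, hd'⟩ := Metric.continuousAt_iff.1 (hP.continuousAt (x := t₀)) _ hpos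
  obtain ⟨r, hr1, hr2⟩ := exists_rat_btwn (show t₀ < t₀ + δ by linarith)
  have h8 := hd' (x := (r : ℝ)) (by rw [Real.dist_eq, abs_lt]; constructor <;> linarith)
  rw [Real.dist_eq, hPt₀, sub_zero] at h8
  have := (abs_lt.1 h8).2
  linarith [hlow r hr1]

end GrothLib.Kleiman
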